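import Mathlib
import Cfsg.Agent.Lib.PGroupNormalSq.Basic
import Cfsg.Agent.Lib.CyclicPGroup.Basic
import Cfsg.Agent.Lib.UniqueInvolution.Basic
import Cfsg.Agent.Lib.SolvableCore.Basic

/-!
Finite groups in which abelian subgroups of the same order are conjugate (helper67): the Sylow
subgroups are of exponent `p` or have a unique subgroup of order `p`; in the soluble case a
noncyclic one of the second kind has order 8.
-/

set_option autoImplicit false

namespace Cfsg.Agent.Lib.AbelianConj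

/-- Abelian subgroups of the same order are conjugate. -/
def AbConj (G : Type*) [Group G] : Prop :=
  ∀ A B : Subgroup G, IsMulCommutative ↥A → IsMulCommutative ↥B → Nat.card ↥A = Nat.card ↥B →
    ∃ g : G, B = A.map (MulAut.conj g).toMonoidHom

variable {G : Type*} [Group G] [Finite G] {p : ℕ}

theorem mem_of_orderOf_eq (hB : AbConj G) {M : Subgroup G} [hMn : M.Normal] {m a : G} (hm : m ∈ M)
    (ha : orderOf a = orderOf m) : a ∈ M := by
  obtain ⟨g, hg⟩ := hB (Subgroup.zpowers m) (Subgroup.zpowers a) inferInstance inferInstance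
    (by rw [Nat.card_zpowers, Nat.card_zpowers, ha])
  have h1 : a ∈ Subgroup.zpowers a := Subgroup.mem_zpowers a
  rw [hg] at h1
  obtain ⟨y, hy, rfl⟩ := Subgroup.mem_map.mp h1
  exact hMn.conj_mem y ((Subgroup.zpowers_le.mpr hm) hy) g

theorem exists_orderOf_eq {P : Type*} [Group P] (hP : IsPGroup p P) [hp : Fact p.Prime] {x : P}
    {k : ℕ} (h : x ^ p ^ k ≠ 1) : ∃ j : ℕ, orderOf (x ^ j) = p ^ (k + 1) := by
  obtain ⟨i, hi⟩ := IsPGroup.iff_orderOf.mp hP x
  have hki : k + 1 ≤ i := by
    by_contra hlt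
    exact h (orderOf_dvd_iff_pow_eq_one.mp (hi ▸ Nat.pow_dvd_pow p (by omega)))
  refine ⟨p ^ (i - (k + 1)), ?_⟩
  rw [orderOf_pow_of_dvd (pow_ne_zero _ hp.out.ne_zero) (hi ▸ Nat.pow_dvd_pow p (Nat.sub_le _ _)), hi,
    Nat.pow_div (Nat.sub_le _ _) hp.out.pos, Nat.sub_sub_self hki]

/-- A Sylow subgroup has exponent `p` or only one subgroup of order `p`. -/
theorem exponent_or_unique (hB : AbConj G) [hp : Fact p.Prime] (P : Sylow p G) :
    (∀ x ∈ (P : Subgroup G), x ^ p = 1) ∨
      (∀ u v : (P : Subgroup G), orderOf u = p → orderOf v = p → u ∈ Subgroup.zpowers v) := by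
  by_contra hcon
  push Not at hcon
  obtain ⟨⟨x, hxP, hx⟩, u, v, hu, hv, huv⟩ := hcon
  have hP : IsPGroup p (P : Subgroup G) := P.2
  haveI : Nontrivial (P : Subgroup G) := ⟨⟨u, 1, fun h => by
    rw [h, orderOf_one] at hu; exact hp.out.ne_one hu.symm⟩⟩
  obtain ⟨z, hz⟩ : ∃ z : Subgroup.center (P : Subgroup G), orderOf z = p := by
    haveI := hP.center_nontrivial
    refine exists_prime_orderOf_dvd_card' p ?_
    rcases (hP.to_subgroup (Subgroup.center _)).card_eq_or_dvd with h | h
    · exact absurd h (Finite.one_lt_card (α := Subgroup.center (P : Subgroup G))).ne'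
    · exact h
  have hzo : orderOf (z : (P : Subgroup G)) = p := (Subgroup.orderOf_coe z).trans hz
  obtain ⟨w, hw, hwz⟩ : ∃ w : (P : Subgroup G), orderOf w = p ∧ w ∉ Subgroup.zpowers (z : (P : Subgroup G)) := by
    by_contra hall
    push Not at hall
    have h1 : Subgroup.zpowers v = Subgroup.zpowers (z : (P : Subgroup G)) :=
      Subgroup.eq_of_le_of_card_ge (Subgroup.zpowers_le.mpr (hall v hv))
        (by rw [Nat.card_zpowers, Nat.card_zpowers, hv, hzo])
    exact huv (h1 ▸ hall u hu)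
  have hzp : (z : (P : Subgroup G)) ^ p = 1 := by
    conv_lhs => arg 2; rw [← hzo]
    exact pow_orderOf_eq_one _
  have hwp : w ^ p = 1 := by
    conv_lhs => arg 2; rw [← hw]
    exact pow_orderOf_eq_one _
  set E := Subgroup.closure ({(z : (P : Subgroup G)), w} : Set (P : Subgroup G)) with hE
  have hEc : Nat.card E = p ^ 2 := PGroupNormalSq.card_closure_pair z.2 hzp hwp
    (fun h => by rw [h, orderOf_one] at hzo; exact hp.out.ne_one hzo.symm) hwz
  haveI hEab : IsMulCommutative E := IsPGroup.isMulCommutative_of_card_eq_prime_sq hEc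
  have hEp : ∀ a ∈ E, a ^ p = 1 := by
    intro a ha
    induction ha using Subgroup.closure_induction with
    | mem a ha => rcases ha with rfl | rfl <;> assumption
    | one => exact one_pow _
    | mul c d hc hd ihc ihd =>
      have hcd : Commute c d := congrArg Subtype.val
        ((IsMulCommutative.is_comm (M := E)).comm ⟨c, hc⟩ ⟨d, hd⟩)
      rw [hcd.mul_pow, ihc, ihd, one_mul]
    | inv c _ ihc => rw [inv_pow, ihc, inv_one]
  obtain ⟨j, hj⟩ := exists_orderOf_eq hP (x := (⟨x, hxP⟩ : (P : Subgroup G))) (k := 1)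
    (fun h => hx (by
      have h' := congrArg Subtype.val h
      simpa using h'))
  set y : G := (((⟨x, hxP⟩ : (P : Subgroup G)) ^ j : (P : Subgroup G)) : G) with hy
  have hyo : orderOf y = p ^ 2 := (Subgroup.orderOf_coe _).trans hj
  obtain ⟨g, hg⟩ := hB (E.map (P : Subgroup G).subtype) (Subgroup.zpowers y)
    (Subgroup.map_isMulCommutative E (P : Subgroup G).subtype) inferInstance
    (by rw [Nat.card_zpowers, hyo, Subgroup.card_subtype, hEc])
  have hmem : y ∈ Subgroup.zpowers y := Subgroup.mem_zpowers y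
  rw [hg] at hmem
  obtain ⟨b, ⟨e, he, rfl⟩, hby⟩ := Subgroup.mem_map.mp hmem
  have h1 : y ^ p = 1 := by
    rw [← hby, ← map_pow, ← map_pow, hEp e he, map_one, map_one]
  have h2 := Nat.le_of_dvd hp.out.pos (hyo ▸ orderOf_dvd_of_pow_eq_one h1)
  nlinarith [hp.out.two_le]

theorem pow_eq_one_of_not_dvd_index {M : Subgroup G} [M.Normal] (hexp : ∀ [Fact p.Prime] (P : Sylow p G),
    ∀ x ∈ (P : Subgroup G), x ^ p = 1 → x ∈ M) [Fact p.Prime] (P : Sylow p G)
    (h : ∀ x ∈ (P : Subgroup G), x ^ p = 1) : ¬ p ∣ M.index := by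
  intro hd
  exact P.not_dvd_index (hd.trans (Subgroup.index_dvd_of_le fun x hx => hexp P x hx (h x hx)))

/-- If a normal subgroup and its index are both divisible by `p`, there is one subgroup of order `p`
in a Sylow `p`-subgroup. -/
theorem unique_of_dvd (hB : AbConj G) [hp : Fact p.Prime] {M : Subgroup G} [M.Normal]
    (hM : p ∣ Nat.card M) (hi : p ∣ M.index) (P : Sylow p G) :
    ∀ u v : (P : Subgroup G), orderOf u = p → orderOf v = p → u ∈ Subgroup.zpowers v := by
  refine (exponent_or_unique hB P).resolve_left fun h => ?_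
  obtain ⟨m, hm⟩ := exists_prime_orderOf_dvd_card' (G := M) p hM
  refine pow_eq_one_of_not_dvd_index (M := M) (fun Q x _ hx => ?_) P h hi
  by_cases h1 : x = 1
  · subst h1; exact one_mem M
  · exact mem_of_orderOf_eq hB m.2 ((orderOf_eq_prime hx h1).trans
      (hm.symm.trans (Subgroup.orderOf_coe m).symm))

theorem isCyclic_of_unique [hp : Fact p.Prime] {P : Type*} [Group P] [Finite P] (hP : IsPGroup p P)
    (hu : ∀ u v : P, orderOf u = p → orderOf v = p → u ∈ Subgroup.zpowers v)
    (h : p ≠ 2 ∨ IsMulCommutative P) : IsCyclic P := by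
  have hu' : ∀ a b : P, a ^ p = 1 → b ^ p = 1 → b ≠ 1 → a ∈ Subgroup.zpowers b := by
    intro a b ha hb hb1
    by_cases ha1 : a = 1
    · subst ha1; exact one_mem _
    · exact hu a b (orderOf_eq_prime ha ha1) (orderOf_eq_prime hb hb1)
  by_cases hp2 : p = 2
  · have hab := h.resolve_left (not_not.mpr hp2)
    rcases subsingleton_or_nontrivial P with hs | hn
    · infer_instance
    obtain ⟨x, hx⟩ := exists_ne (1 : P)
    obtain ⟨j, hj⟩ := exists_orderOf_eq hP (x := x) (k := 0) (by simpa using hx)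
    rw [zero_add, pow_one] at hj
    obtain ⟨b, -, hb⟩ := PGroupNormalSq.exists_zpowers_eq (B := (⊤ : Subgroup P)) (z := x ^ j) hP
      (fun a _ c _ => hab.is_comm.comm a c)
      (fun u _ hu1 => hu' u _ hu1 (by
        conv_lhs => arg 2; rw [← hj]
        exact pow_orderOf_eq_one _) (fun h0 => by rw [h0, orderOf_one] at hj; exact hp.out.ne_one hj.symm))
      (fun c _ hc1 => by
        obtain ⟨i, hi⟩ := exists_orderOf_eq hP (x := c) (k := 0) (by simpa using hc1)
        rw [zero_add, pow_one] at hi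
        exact Subgroup.zpowers_le.mpr (pow_mem (Subgroup.mem_zpowers c) i) (hu _ _ hj hi))
    refine ⟨⟨b, fun y => ?_⟩⟩
    show y ∈ Subgroup.zpowers b
    rw [hb]; exact Subgroup.mem_top y
  · exact CyclicPGroup.isCyclic_of_forall_mem_zpowers hp2 hP hu'

/-- In a soluble group of this kind a generalised quaternion Sylow 2-subgroup has order 8, and
lies in every normal subgroup containing an element of order 4. -/
theorem quaternion_facts (hB : AbConj G) (hs : Group.IsSolvable G) (P : Sylow 2 G)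
    (hu : ∀ u v : (P : Subgroup G), orderOf u = 2 → orderOf v = 2 → u ∈ Subgroup.zpowers v)
    (hnc : ¬ IsCyclic (P : Subgroup G)) :
    Nat.card (P : Subgroup G) = 8 ∧
      ∀ M : Subgroup G, M.Normal → (∃ m ∈ M, orderOf m = 4) → (P : Subgroup G) ≤ M := by
  haveI : Fact (Nat.Prime 2) := ⟨Nat.prime_two⟩
  have hna : ¬ IsMulCommutative (P : Subgroup G) := fun h => hnc (isCyclic_of_unique P.2 hu (Or.inr h))
  have huniq : ∀ u v : (P : Subgroup G), orderOf u = 2 → orderOf v = 2 → u = v := by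
    intro u v h1 h2
    obtain ⟨i, hi⟩ := hu u v h1 h2
    change v ^ i = u at hi
    have hv : v ^ 2 = 1 := orderOf_dvd_iff_pow_eq_one.mp h2.dvd
    rcases Int.even_or_odd i with ⟨r, rfl⟩ | ⟨r, rfl⟩
    · rw [← two_mul, zpow_mul, zpow_two, ← pow_two, hv, one_zpow] at hi
      rw [← hi, orderOf_one] at h1; omega
    · rw [zpow_add, zpow_mul, zpow_two, ← pow_two, hv, one_zpow, one_mul, zpow_one] at hi
      exact hi.symm
  obtain ⟨m, a, hm, ha, hi, hout⟩ := UniqueInvolution.exists_quaternion_gen P.2 huniq hna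
  have h4 : ∀ x, x ∉ Subgroup.zpowers a → orderOf x = 4 := by
    intro x hx
    have hxx : (x ^ 2 : (P : Subgroup G)) ≠ 1 := by
      rw [pow_two, (hout x hx).2]
      intro h1
      have := Nat.le_of_dvd (pow_pos two_pos _) (orderOf_dvd_of_pow_eq_one h1)
      rw [ha, Nat.pow_le_pow_iff_right (by norm_num)] at this
      omega
    refine orderOf_eq_prime_pow (p := 2) (n := 1) (by simpa using hxx) ?_
    rw [pow_succ, pow_one, pow_mul, pow_two x, (hout x hx).2, ← pow_mul, ← pow_succ,
      show m - 1 + 1 = m by omega, ← ha, pow_orderOf_eq_one]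
  obtain ⟨x, hx⟩ : ∃ x, x ∉ Subgroup.zpowers a := by
    by_contra hcon
    push Not at hcon
    rw [(Subgroup.eq_top_iff' _).mpr hcon, Subgroup.index_top] at hi
    omega
  have hxa : x⁻¹ * a ∉ Subgroup.zpowers a := fun h => hx (inv_mem_iff.mp
    ((Subgroup.mul_mem_cancel_right _ (Subgroup.mem_zpowers a)).mp h))
  have hgen : ∀ M : Subgroup G, M.Normal → (∃ m ∈ M, orderOf m = 4) → (P : Subgroup G) ≤ M := by
    intro M hM hm4 g hg
    obtain ⟨k, hk, hk4⟩ := hm4
    have hout4 : ∀ y, y ∉ Subgroup.zpowers a → (y : G) ∈ M := fun y hy =>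
      mem_of_orderOf_eq hB hk (by rw [Subgroup.orderOf_coe, h4 y hy, hk4])
    by_cases hga : (⟨g, hg⟩ : (P : Subgroup G)) ∈ Subgroup.zpowers a
    · obtain ⟨i, hi'⟩ := hga
      change a ^ i = _ at hi'
      have ha' : (a : G) ∈ M := by
        have := M.mul_mem (hout4 x hx) (hout4 _ hxa)
        simpa using this
      have := M.zpow_mem ha' i
      rwa [← Subgroup.coe_zpow, hi'] at this
    · exact hout4 _ hga
  refine ⟨?_, hgen⟩
  have hcard : Nat.card (P : Subgroup G) = 2 ^ (m + 1) := by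
    rw [← (Subgroup.zpowers a).card_mul_index, Nat.card_zpowers, ha, hi, pow_succ]
  by_contra h8
  have hm3 : 3 ≤ m := by
    by_contra hlt
    exact h8 (by rw [hcard, show m = 2 by omega]; norm_num)
  -- modulo the odd core
  haveI : (Cfsg.pPrimeCore 2 G).Normal := by
    haveI := PSolvable.pPrimeCore_characteristic (p := 2) (G := G)
    infer_instance
  let Q := G ⧸ Cfsg.pPrimeCore 2 G
  let φ : (P : Subgroup G) →* Q := (QuotientGroup.mk' _).comp (P : Subgroup G).subtype
  have hinj : Function.Injective φ := by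
    rw [injective_iff_map_eq_one]
    intro y hy
    have hy1 : (y : G) ∈ Cfsg.pPrimeCore 2 G := (QuotientGroup.eq_one_iff _).mp hy
    obtain ⟨i, hi'⟩ := IsPGroup.iff_orderOf.mp P.2 y
    have h1 : orderOf (y : G) ∣ Nat.card (Cfsg.pPrimeCore 2 G) := by
      rw [← Nat.card_zpowers]; exact Subgroup.card_dvd_of_le (Subgroup.zpowers_le.mpr hy1)
    rw [Subgroup.orderOf_coe, hi'] at h1
    rw [← orderOf_eq_one_iff, hi']
    exact Nat.eq_one_of_dvd_coprimes (Nat.Coprime.pow_left i (PSolvable.pPrimeCore_coprime (p := 2)).symm)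
      dvd_rfl h1
  haveI hD := PSolvable.pCore_characteristic (p := 2) (G := Q)
  set D := Cfsg.pCore 2 Q with hDdef
  have hPmap : ∀ S : Subgroup Q, IsPGroup 2 S → ∃ q : Q, S ≤ φ.range.map (MulAut.conj q).toMonoidHom := by
    intro S hS
    obtain ⟨T, hT⟩ := hS.exists_le_sylow
    let P' : Sylow 2 Q := P.mapSurjective (QuotientGroup.mk'_surjective (Cfsg.pPrimeCore 2 G))
    obtain ⟨q, hq⟩ := MulAction.exists_smul_eq Q P' T
    refine ⟨q, hT.trans ?_⟩
    rw [← hq]
    have hr : φ.range = (P' : Subgroup Q) := by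
      rw [MonoidHom.range_comp, Subgroup.range_subtype]; rfl
    rw [hr]
    exact le_of_eq rfl
  have hDP : D ≤ φ.range := by
    obtain ⟨q, hq⟩ := hPmap D PSolvable.pCore_isPGroup
    intro d hd
    obtain ⟨y, hy, hyd⟩ := hq ((inferInstance : D.Normal).conj_mem d hd q)
    have : y = d := (MulAut.conj q).injective (hyd.trans rfl)
    exact this ▸ hy
  -- an element of order 4 in the 2-core
  obtain ⟨d, hdD, hd4⟩ : ∃ d : (P : Subgroup G), φ d ∈ D ∧ orderOf d = 4 := by
    by_contra hno
    push Not at hno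
    have hD2 : ∀ d : (P : Subgroup G), φ d ∈ D → d ^ 2 = 1 := by
      intro d hd
      by_contra h2
      obtain ⟨j, hj⟩ := exists_orderOf_eq P.2 (x := d) (k := 1) (by simpa using h2)
      exact hno _ (by rw [map_pow]; exact pow_mem hd j) hj
    have hcyc : IsCyclic D := by
      by_cases hbot : D = ⊥
      · rw [hbot]; infer_instance
      obtain ⟨d, hdD, hd1⟩ : ∃ d ∈ D, d ≠ 1 := (Subgroup.ne_bot_iff_exists_ne_one.mp hbot).elim
        fun d hd => ⟨d, d.2, fun h => hd (Subtype.ext h)⟩
      refine ⟨⟨⟨d, hdD⟩, fun e => ?_⟩⟩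
      by_cases he : (e : Q) = 1
      · exact ⟨0, Subtype.ext (by simpa using he.symm)⟩
      obtain ⟨d', rfl⟩ := hDP hdD
      obtain ⟨e', he'⟩ := hDP e.2
      have h1 : d' = e' := huniq d' e' (orderOf_eq_prime (hD2 d' hdD) fun h => hd1 (by rw [h, map_one]))
        (orderOf_eq_prime (hD2 e' (he' ▸ e.2)) fun h => he (by rw [← he', h, map_one]))
      exact ⟨1, Subtype.ext (by rw [← he', ← h1]; simp)⟩
    have hQ := SolvableCore.isPGroup_two_of_isCyclic_pCore (G := Q) inferInstance
      PSolvable.pPrimeCore_quotient_eq_bot hcyc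
    have htop : D = ⊤ := top_le_iff.mp (PSolvable.le_pCore (hQ.to_subgroup ⊤))
    have := hD2 x (htop ▸ Subgroup.mem_top _)
    have h2 := orderOf_dvd_of_pow_eq_one this
    rw [h4 x hx] at h2
    norm_num at h2
  have hnorm : φ.range.Normal := by
    have hle : φ.range = D := by
      refine le_antisymm ?_ hDP
      rintro _ ⟨y, rfl⟩
      exact hgen (D.comap (QuotientGroup.mk' (Cfsg.pPrimeCore 2 G))) inferInstance
        ⟨d, hdD, (Subgroup.orderOf_coe d).trans hd4⟩ y.2
    rw [hle]; infer_instance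
  -- the image of `⟨a⟩` is normal
  have hCn : ((Subgroup.zpowers a).map φ).Normal := by
    refine ⟨fun u hu q => ?_⟩
    obtain ⟨a', ha'⟩ := hnorm.conj_mem (φ a) ⟨a, rfl⟩ q
    have hmem : a' ∈ Subgroup.zpowers a := by
      by_contra hna'
      have h1 : orderOf (φ a') = orderOf (φ a) := by
        rw [ha']; exact MulEquiv.orderOf_eq (MulAut.conj q) (φ a)
      rw [orderOf_injective φ hinj, orderOf_injective φ hinj, h4 a' hna', ha] at h1
      have := Nat.pow_le_pow_right two_pos hm3
      omega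
    obtain ⟨b, ⟨i, rfl⟩, rfl⟩ := hu
    refine ⟨a' ^ i, zpow_mem hmem i, ?_⟩
    show φ (a' ^ i) = q * φ (a ^ i) * q⁻¹
    rw [map_zpow, map_zpow, ha', conj_zpow]
  set c := a ^ 2 ^ (m - 2) with hc
  have hc4 : orderOf c = 4 := by
    rw [hc, orderOf_pow_of_dvd (pow_ne_zero _ two_ne_zero) (ha ▸ Nat.pow_dvd_pow 2 (by omega)), ha,
      Nat.pow_div (by omega) two_pos, show m - (m - 2) = 2 by omega]
    norm_num
  have hxC := mem_of_orderOf_eq hB (M := ((Subgroup.zpowers a).map φ).comap (QuotientGroup.mk' (Cfsg.pPrimeCore 2 G)))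
    (m := (c : G)) (a := (x : G)) ⟨c, pow_mem (Subgroup.mem_zpowers a) _, rfl⟩
    (by rw [Subgroup.orderOf_coe, Subgroup.orderOf_coe, hc4, h4 x hx])
  obtain ⟨y, hy, hyx⟩ := hxC
  exact hx (hinj (hyx : φ y = φ x) ▸ hy)

end Cfsg.Agent.Lib.AbelianConj
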