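import Cfsg.Agent.Lib.AbelianConj.Basic
import Cfsg.Agent.Lib.PGroup.NormalElem
import Cfsg.Agent.Lib.SZ.Card

/-!
Abelian lifts of abelian subgroups of quotients, and the conjugacy of abelian subgroups of equal
order in quotients (helper67).
-/

set_option autoImplicit false

namespace Cfsg.Agent.Lib.AbelianConj

variable {G : Type*} [Group G] [Finite G]

theorem le_of_card_dvd {C : Type*} [Group C] [Finite C] [IsCyclic C] {H K : Subgroup C}
    (h : Nat.card H ∣ Nat.card K) : H ≤ K := by
  classical
  cases nonempty_fintype C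
  intro x hx
  set s := Finset.univ.filter (fun y : C => y ^ Nat.card K = 1) with hs
  have hsub : Finset.univ.filter (fun y : C => y ∈ K) ⊆ s := by
    intro y hy
    simp only [Finset.mem_filter, Finset.mem_univ, true_and, hs] at hy ⊢
    exact congrArg Subtype.val (pow_card_eq_one' (x := (⟨y, hy⟩ : K)))
  have heq := Finset.eq_of_subset_of_card_le hsub ((IsCyclic.card_pow_eq_one_le (α := C) Nat.card_pos).trans (by
    rw [Nat.card_eq_fintype_card, Fintype.card_subtype]))
  have hxs : x ∈ s := by
    simp only [Finset.mem_filter, Finset.mem_univ, true_and, hs]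
    obtain ⟨c, hc⟩ := h
    rw [hc, pow_mul]
    have := congrArg Subtype.val (pow_card_eq_one' (x := (⟨x, hx⟩ : H)))
    simp only [Subgroup.coe_pow, Subgroup.coe_one] at this
    rw [this, one_pow]
  rw [← heq] at hxs
  simpa using hxs

/-- The hypothesis on the primes shared by `M` and the abelian subgroup. -/
def LiftOK (M : Subgroup G) (n : ℕ) : Prop :=
  ∀ p : ℕ, p.Prime → p ∣ Nat.card M → p ∣ n → ∀ P : Sylow p G,
    IsCyclic (P : Subgroup G) ∨
      ((∀ u v : (P : Subgroup G), orderOf u = p → orderOf v = p → u ∈ Subgroup.zpowers v) ∧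
        ¬ p ^ 2 ∣ Nat.card M ∧ ¬ p ^ 2 ∣ n)

/-- An abelian subgroup of a quotient is the image of an abelian subgroup whose order is
determined by that of the image. -/
theorem exists_lift (M : Subgroup G) [M.Normal] (A : Subgroup (G ⧸ M))
    (hA : IsMulCommutative ↥A) (hok : LiftOK M (Nat.card A)) :
    ∃ X : Subgroup G, X.map (QuotientGroup.mk' M) = A ∧ IsMulCommutative ↥X ∧
      ∀ p : ℕ, (Nat.card X).factorization p = (Nat.card A).factorization p +
        if p ∣ Nat.card A then (Nat.card M).factorization p else 0 := by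
  classical
  obtain ⟨X, hX⟩ := (Set.toFinite {X : Subgroup G | X.map (QuotientGroup.mk' M) = A}).exists_minimal
    ⟨A.comap (QuotientGroup.mk' M), Subgroup.map_comap_eq_self_of_surjective (QuotientGroup.mk'_surjective M) A⟩
  have hXA : X.map (QuotientGroup.mk' M) = A := hX.1
  set f := ((QuotientGroup.mk' M).comp X.subtype) with hf
  have hrange : f.range = A := by rw [hf, MonoidHom.range_comp, Subgroup.range_subtype, hXA]
  have hcardA : f.ker.index = Nat.card A := by rw [Subgroup.index_ker, hrange]
  have hmin : ∀ Y : Subgroup X, Y ⊔ f.ker = ⊤ → Y = ⊤ := by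
    intro Y hY
    have h1 : (Y.map X.subtype).map (QuotientGroup.mk' M) = A := by
      rw [Subgroup.map_map, ← hf, ← hrange, MonoidHom.range_eq_map, ← hY, Subgroup.map_sup,
        (Subgroup.map_eq_bot_iff _).mpr le_rfl, sup_bot_eq]
    have h2 := le_antisymm (Subgroup.map_subtype_le Y) (hX.2 h1 (Subgroup.map_subtype_le Y))
    apply Subgroup.map_injective X.subtype_injective
    rw [h2, ← MonoidHom.range_eq_map, Subgroup.range_subtype]
  have hcommA : ∀ a b : X, f a * f b = f b * f a := fun a b => congrArg Subtype.val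
    (hA.is_comm.comm ⟨f a, hrange ▸ ⟨a, rfl⟩⟩ ⟨f b, hrange ▸ ⟨b, rfl⟩⟩)
  haveI hnil : Group.IsNilpotent X := by
    refine ((Group.isNilpotent_of_finite_tfae (G := X)).out 0 2 rfl rfl).mpr fun Y hY => ?_
    have hkY : f.ker ≤ Y := by
      by_contra hnot
      exact hY.1 (hmin Y (hY.2 _ (left_lt_sup.mpr hnot)))
    refine ⟨fun y hy g => ?_⟩
    have h1 : g * y * g⁻¹ * y⁻¹ ∈ Y := hkY (by
      rw [MonoidHom.mem_ker, map_mul, map_mul, map_mul, map_inv, map_inv, hcommA g y]; group)
    have := mul_mem h1 hy
    rwa [inv_mul_cancel_right] at this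
  have hsyl : ∀ (p : ℕ) [Fact p.Prime] (S : Sylow p X),
      IsMulCommutative (S : Subgroup X) ∧ (Nat.card X).factorization p = (Nat.card A).factorization p +
        if p ∣ Nat.card A then (Nat.card M).factorization p else 0 := by
    intro p hp S
    have hpp : p.Prime := hp.out
    haveI hSn : (S : Subgroup X).Normal :=
      S.normal_of_normalizerCondition Group.normalizerCondition_of_isNilpotent
    have hsplit : (Nat.card X).factorization p =
        (Nat.card f.ker).factorization p + (Nat.card A).factorization p := by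
      rw [← f.ker.card_mul_index, hcardA, Nat.factorization_mul Nat.card_pos.ne' Nat.card_pos.ne']
      rfl
    have hkerM : Nat.card f.ker ∣ Nat.card M := by
      rw [← Subgroup.card_subtype X f.ker]
      refine Subgroup.card_dvd_of_le ?_
      rintro _ ⟨y, hy, rfl⟩
      exact (QuotientGroup.eq_one_iff _).mp hy
    by_cases hpA : p ∣ Nat.card A
    · rw [if_pos hpA]
      by_cases hpM : p ∣ Nat.card M
      · obtain ⟨P, hP⟩ := (S.2.map X.subtype).exists_le_sylow
        have hSnk : ¬ (S : Subgroup X) ≤ f.ker := fun h =>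
          S.not_dvd_index ((hcardA ▸ hpA).trans (Subgroup.index_dvd_of_le h))
        obtain ⟨s, hsS, hsk⟩ := SetLike.not_le_iff_exists.mp hSnk
        have hsP : (s : G) ∈ (P : Subgroup G) := hP ⟨s, hsS, rfl⟩
        have hsM : (s : G) ∉ M := fun h => hsk ((QuotientGroup.eq_one_iff _).mpr h)
        have hMP : Nat.card ((M ⊓ (P : Subgroup G) : Subgroup G)) = p ^ (Nat.card M).factorization p := by
          obtain ⟨k, hk⟩ := IsPGroup.iff_card.mp (P.2.to_le (inf_le_right (a := M)))
          rw [hk]
          congr 1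
          have h1 := SZ.card_sup_mul_card_inf (P : Subgroup G) M
          rw [inf_comm] at h1
          rw [hk] at h1
          obtain ⟨l, hl⟩ := IsPGroup.iff_card.mp P.2
          have hlG : p ^ l = p ^ (Nat.card G).factorization p := hl.symm.trans P.card_eq_multiplicity
          have hlv : l = (Nat.card G).factorization p := Nat.pow_right_injective hpp.two_le hlG
          rw [hl] at h1
          have h2 := congrArg (fun n => n.factorization p) h1
          rw [Nat.factorization_mul Nat.card_pos.ne' (pow_ne_zero k hpp.ne_zero),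
            Nat.factorization_mul (pow_ne_zero l hpp.ne_zero) Nat.card_pos.ne', Finsupp.add_apply,
            Finsupp.add_apply, hpp.factorization_pow, hpp.factorization_pow, Finsupp.single_eq_same,
            Finsupp.single_eq_same] at h2
          have h3 := (Nat.factorization_le_iff_dvd Nat.card_pos.ne' Nat.card_pos.ne').mpr
            ((P : Subgroup G) ⊔ M).card_subgroup_dvd_card p
          have h4 : l ≤ (Nat.card ((P : Subgroup G) ⊔ M : Subgroup G)).factorization p :=
            (hpp.pow_dvd_iff_le_factorization Nat.card_pos.ne').mp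
              (hl ▸ Subgroup.card_dvd_of_le le_sup_left)
          omega
        -- the part of `M` in `P` lies in the image of `S`
        have hle : M ⊓ (P : Subgroup G) ≤ (S : Subgroup X).map X.subtype := by
          rcases hok p hpp hpM hpA P with hc | ⟨hu, hM2, -⟩
          · haveI := hc
            have hH : ∀ H : Subgroup G, H ≤ (P : Subgroup G) →
                Nat.card (H.subgroupOf (P : Subgroup G)) = Nat.card H := fun H hH =>
              Nat.card_congr (Subgroup.subgroupOfEquivOfLe hH).toEquiv
            have h1 : (M ⊓ (P : Subgroup G)).subgroupOf (P : Subgroup G) ≤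
                ((S : Subgroup X).map X.subtype).subgroupOf (P : Subgroup G) := by
              obtain ⟨i, hi⟩ := IsPGroup.iff_card.mp (P.2.to_le (inf_le_right (a := M)))
              obtain ⟨j, hj⟩ := IsPGroup.iff_card.mp (S.2.map X.subtype)
              refine le_of_card_dvd ?_
              rw [hH _ inf_le_right, hH _ hP, hi, hj]
              by_contra hnd
              have hji : j ≤ i := by
                by_contra h'
                exact hnd (Nat.pow_dvd_pow p (by omega))
              have h2 : ((S : Subgroup X).map X.subtype).subgroupOf (P : Subgroup G) ≤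
                  (M ⊓ (P : Subgroup G)).subgroupOf (P : Subgroup G) := le_of_card_dvd (by
                rw [hH _ inf_le_right, hH _ hP, hi, hj]; exact Nat.pow_dvd_pow p hji)
              exact hsM (h2 (show (⟨(s : G), hsP⟩ : (P : Subgroup G)) ∈ _ from ⟨s, hsS, rfl⟩)).1
            intro g hg
            exact h1 (show (⟨g, hg.2⟩ : (P : Subgroup G)) ∈ _ from hg)
          · intro g hg
            by_cases hg1 : g = 1
            · subst hg1; exact one_mem _
            have hv : (Nat.card M).factorization p ≤ 1 := by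
              by_contra h'
              exact hM2 ((Nat.pow_dvd_pow p (show 2 ≤ (Nat.card M).factorization p by omega)).trans
                (Nat.ordProj_dvd _ p))
            have hgo : orderOf g = p := by
              refine orderOf_eq_prime ?_ hg1
              have h1 : g ^ Nat.card (M ⊓ (P : Subgroup G) : Subgroup G) = 1 := congrArg Subtype.val
                (pow_card_eq_one' (x := (⟨g, hg⟩ : (M ⊓ (P : Subgroup G) : Subgroup G))))
              rw [hMP] at h1
              obtain ⟨c, hc⟩ := Nat.pow_dvd_pow p hv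
              rw [pow_one] at hc
              rw [hc, pow_mul, h1, one_pow]
            have hs1 : (⟨(s : G), hsP⟩ : (P : Subgroup G)) ^ p ^ 0 ≠ 1 := fun h => hsM (by
              have h' := congrArg Subtype.val h
              simp only [pow_zero, pow_one, Subgroup.coe_one] at h'
              rw [h']; exact one_mem M)
            obtain ⟨j, hj⟩ := exists_orderOf_eq P.2 hs1
            rw [zero_add, pow_one] at hj
            obtain ⟨i, hi⟩ := hu ⟨g, hg.2⟩ _ ((Subgroup.orderOf_mk g hg.2).trans hgo) hj
            have hi' : ((s : G) ^ j) ^ i = g := by simpa using congrArg Subtype.val hi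
            rw [← hi']
            exact zpow_mem (pow_mem (Subgroup.mem_map_of_mem X.subtype hsS) j) i
        refine ⟨?_, ?_⟩
        · rcases hok p hpp hpM hpA P with hc | ⟨-, hM2, hA2⟩
          · haveI := hc
            haveI : IsCyclic ((S : Subgroup X).map X.subtype) :=
              isCyclic_of_injective (Subgroup.inclusion hP) (Subgroup.inclusion_injective hP)
            haveI : IsCyclic (S : Subgroup X) :=
              (Subgroup.equivMapOfInjective (S : Subgroup X) X.subtype X.subtype_injective).isCyclic.mpr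
                inferInstance
            exact IsCyclic.isMulCommutative
          · let fS := f.comp (S : Subgroup X).subtype
            have hcard_le : ∀ n : ℕ, ∀ {H : Type _} [Group H] [Finite H], IsPGroup p H → Nat.card H ∣ n →
                ¬ p ^ 2 ∣ n → Nat.card H ∣ p := by
              intro n H _ _ hH hd hn
              obtain ⟨k, hk⟩ := IsPGroup.iff_card.mp hH
              rw [hk]
              rcases (show k = 0 ∨ k = 1 ∨ 2 ≤ k by omega) with rfl | rfl | h2
              · simp
              · simp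
              · exact absurd ((Nat.pow_dvd_pow p h2).trans (hk ▸ hd)) hn
            have hk1 : Nat.card fS.ker ∣ p := hcard_le (Nat.card M) (S.2.to_subgroup _) (by
              have : fS.ker = f.ker.subgroupOf (S : Subgroup X) := rfl
              rw [this, ← Subgroup.card_subtype (S : Subgroup X) _]
              exact (Subgroup.card_dvd_of_le (by rw [Subgroup.subgroupOf_map_subtype]; exact inf_le_left)).trans
                hkerM) hM2
            have hq : Nat.card ((S : Subgroup X) ⧸ fS.ker) ∣ p := by
              refine hcard_le (Nat.card A) (S.2.to_quotient _) ?_ hA2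
              rw [← Subgroup.index_eq_card, Subgroup.index_ker]
              exact Subgroup.card_dvd_of_le (by rintro _ ⟨y, rfl⟩; exact hrange ▸ ⟨_, rfl⟩)
            haveI : IsCyclic ((S : Subgroup X) ⧸ fS.ker) := isCyclic_of_card_dvd_prime hq
            exact ⟨⟨commutative_of_cyclic_center_quotient (QuotientGroup.mk' fS.ker) (by
              rw [QuotientGroup.ker_mk']
              exact NormalElem.le_center_of_card_prime S.2 (Nat.le_of_dvd hpp.pos hk1))⟩⟩
        · rw [hsplit, add_comm]
          congr 1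
          refine le_antisymm
            ((Nat.factorization_le_iff_dvd Nat.card_pos.ne' Nat.card_pos.ne').mpr hkerM p) ?_
          have h1 : p ^ (Nat.card M).factorization p ∣ Nat.card f.ker := by
            rw [← hMP, ← Subgroup.card_subtype X f.ker]
            refine Subgroup.card_dvd_of_le fun g hg => ?_
            obtain ⟨y, -, hy⟩ := hle hg
            exact ⟨y, (QuotientGroup.eq_one_iff _).mpr (by
              change (y : G) = g at hy
              show (y : G) ∈ M
              rw [hy]; exact hg.1), hy⟩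
          exact (hpp.pow_dvd_iff_le_factorization Nat.card_pos.ne').mp h1
      · have hk : ¬ p ∣ Nat.card f.ker := fun h => hpM (h.trans hkerM)
        refine ⟨⟨⟨fun a b => ?_⟩⟩, ?_⟩
        · apply Subtype.ext
          rw [← inv_inv (a * b : (S : Subgroup X)).1]
          have h1 : ((a * b) * (b * a)⁻¹ : (S : Subgroup X)).1 ∈ f.ker := by
            rw [MonoidHom.mem_ker]
            simp only [Subgroup.coe_mul, Subgroup.coe_inv, map_mul, map_inv]
            rw [hcommA]; group
          obtain ⟨i, hi⟩ := IsPGroup.iff_orderOf.mp S.2 ((a * b) * (b * a)⁻¹)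
          have h2 : ((a * b) * (b * a)⁻¹ : (S : Subgroup X)) = 1 := by
            rw [← orderOf_eq_one_iff, hi]
            refine Nat.eq_one_of_dvd_coprimes (Nat.Coprime.pow_left i (hpp.coprime_iff_not_dvd.mpr hk))
              dvd_rfl ?_
            rw [← hi, ← Subgroup.orderOf_coe, ← Nat.card_zpowers]
            exact Subgroup.card_dvd_of_le (Subgroup.zpowers_le.mpr h1)
          rw [mul_inv_eq_one] at h2
          rw [inv_inv, h2]
        · rw [hsplit, Nat.factorization_eq_zero_of_not_dvd hk, Nat.factorization_eq_zero_of_not_dvd hpM,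
            zero_add, add_zero]
    · rw [if_neg hpA, Nat.factorization_eq_zero_of_not_dvd hpA, add_zero]
      have hSk : (S : Subgroup X) ≤ f.ker := by
        intro s hs
        have h2 : orderOf (f s) ∣ Nat.card A := by
          rw [← Nat.card_zpowers, ← hrange]
          exact Subgroup.card_dvd_of_le (Subgroup.zpowers_le.mpr ⟨s, rfl⟩)
        obtain ⟨i, hi⟩ := IsPGroup.iff_orderOf.mp S.2 ⟨s, hs⟩
        have h3 : orderOf (f s) ∣ p ^ i := hi ▸ (Subgroup.orderOf_mk s hs).symm ▸ orderOf_map_dvd f s
        rw [MonoidHom.mem_ker, ← orderOf_eq_one_iff]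
        exact Nat.eq_one_of_dvd_coprimes
          (Nat.Coprime.pow_left i (hpp.coprime_iff_not_dvd.mpr hpA)) h3 h2
      obtain ⟨H, hH⟩ := Subgroup.exists_right_complement'_of_coprime S.card_coprime_index
      have htop : H = ⊤ := hmin H (top_le_iff.mp (hH.sup_eq_top ▸ sup_le (hSk.trans le_sup_right) le_sup_left))
      have hbot : (S : Subgroup X) = ⊥ := by
        have := hH.disjoint
        rwa [htop, disjoint_top] at this
      refine ⟨⟨⟨fun a b => ?_⟩⟩, ?_⟩
      · have : ∀ c : (S : Subgroup X), c = 1 := fun c => Subtype.ext (Subgroup.mem_bot.mp (hbot ▸ c.2))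
        rw [this a, this b]
      · have := S.card_eq_multiplicity
        rw [hbot, Subgroup.card_bot] at this
        by_contra h
        exact absurd this.symm (Nat.one_lt_pow h hpp.one_lt).ne'
  refine ⟨X, hXA, ?_, fun p => ?_⟩
  · obtain ⟨e⟩ : Nonempty ((∀ q : (Nat.card X).primeFactors, ∀ P : Sylow (q : ℕ) X, (P : Subgroup X)) ≃* X) :=
      ((Group.isNilpotent_of_finite_tfae (G := X)).out 0 4 rfl rfl).mp hnil
    refine ⟨⟨fun a b => e.symm.injective ?_⟩⟩
    rw [map_mul, map_mul]
    funext q P
    haveI : Fact (q : ℕ).Prime := ⟨Nat.prime_of_mem_primeFactors q.2⟩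
    exact (hsyl q P).1.is_comm.comm _ _
  · by_cases hp : p.Prime
    · haveI : Fact p.Prime := ⟨hp⟩
      obtain ⟨S⟩ : Nonempty (Sylow p X) := inferInstance
      exact (hsyl p S).2
    · simp [Nat.factorization_eq_zero_of_not_prime _ hp]

theorem conj_quotient_of_liftOK (hB : AbConj G) (M : Subgroup G) [M.Normal]
    (A B : Subgroup (G ⧸ M)) (hA : IsMulCommutative ↥A) (hB' : IsMulCommutative ↥B)
    (hc : Nat.card A = Nat.card B) (hok : LiftOK M (Nat.card A)) :
    ∃ g : G ⧸ M, B = A.map (MulAut.conj g).toMonoidHom := by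
  obtain ⟨X, hX, hXc, hXf⟩ := exists_lift M A hA hok
  obtain ⟨Y, hY, hYc, hYf⟩ := exists_lift M B hB' (hc ▸ hok)
  obtain ⟨g, hg⟩ := hB X Y hXc hYc (Nat.eq_of_factorization_eq Nat.card_pos.ne' Nat.card_pos.ne'
    fun p => by rw [hXf, hYf, hc])
  refine ⟨QuotientGroup.mk' M g, ?_⟩
  rw [← hY, hg, ← hX, Subgroup.map_map, Subgroup.map_map]
  congr 1

theorem odd_quotient (hB : AbConj G) (M : Subgroup G) [M.Normal] (hM : Odd (Nat.card M)) :
    AbConj (G ⧸ M) := by
  intro A B hA hB' hc
  refine conj_quotient_of_liftOK hB M A B hA hB' hc fun p hp hpM hpA P => Or.inl ?_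
  haveI : Fact p.Prime := ⟨hp⟩
  refine isCyclic_of_unique P.2 (unique_of_dvd hB hpM ?_ P) (Or.inl ?_)
  · rw [Subgroup.index_eq_card]; exact hpA.trans A.card_subgroup_dvd_card
  · rintro rfl
    exact absurd (even_iff_two_dvd.mpr hpM) (Nat.not_even_iff_odd.mpr hM)

theorem exists_split {Q : Type*} [Group Q] [Finite Q] (A : Subgroup Q) (hA : IsMulCommutative ↥A) :
    ∃ V O : Subgroup Q, IsPGroup 2 V ∧ ¬ 2 ∣ Nat.card O ∧ V ⊔ O = A ∧
      Nat.card V * Nat.card O = Nat.card A := by
  haveI : Fact (Nat.Prime 2) := ⟨Nat.prime_two⟩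
  haveI := hA
  let S : Sylow 2 A := default
  haveI : (S : Subgroup A).Normal := ⟨fun a ha g => by
    rw [hA.is_comm.comm g a, mul_inv_cancel_right]; exact ha⟩
  obtain ⟨H, hH⟩ := Subgroup.exists_right_complement'_of_coprime S.card_coprime_index
  refine ⟨(S : Subgroup A).map A.subtype, H.map A.subtype, S.2.map _, ?_, ?_, ?_⟩
  · rw [Subgroup.card_subtype, ← hH.symm.index_eq_card]
    exact S.not_dvd_index
  · rw [← Subgroup.map_sup, hH.sup_eq_top, ← MonoidHom.range_eq_map, Subgroup.range_subtype]
  · rw [Subgroup.card_subtype, Subgroup.card_subtype, hH.card_mul]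

theorem solvable_quotient (hB : AbConj G) (hs : Group.IsSolvable G) (M : Subgroup G) [M.Normal] :
    AbConj (G ⧸ M) := by
  intro A B hA hB' hc
  haveI : Fact (Nat.Prime 2) := ⟨Nat.prime_two⟩
  obtain ⟨P⟩ : Nonempty (Sylow 2 G) := inferInstance
  have hAi : ∀ {p : ℕ} {C : Subgroup (G ⧸ M)}, p ∣ Nat.card C → p ∣ M.index := fun {p C} h => by
    rw [Subgroup.index_eq_card]; exact h.trans C.card_subgroup_dvd_card
  have hodd : ∀ (C : Subgroup (G ⧸ M)) (p : ℕ) (hp : p.Prime), p ≠ 2 → p ∣ Nat.card M →
      p ∣ Nat.card C → ∀ P : Sylow p G, IsCyclic (P : Subgroup G) := by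
    intro C p hp hp2 hpM hpC P
    haveI : Fact p.Prime := ⟨hp⟩
    exact isCyclic_of_unique P.2 (unique_of_dvd hB hpM (hAi hpC) P) (Or.inl hp2)
  by_cases hcyc : ¬ (2 ∣ Nat.card M ∧ 2 ∣ Nat.card A) ∨ IsCyclic (P : Subgroup G)
  · refine conj_quotient_of_liftOK hB M A B hA hB' hc fun p hp hpM hpA P' => Or.inl ?_
    by_cases hp2 : p = 2
    · subst hp2
      exact (MulEquiv.isCyclic (Sylow.equiv P P')).mp (hcyc.resolve_left (fun h => h ⟨hpM, hpA⟩))
    · exact hodd A p hp hp2 hpM hpA P'
  push Not at hcyc
  obtain ⟨⟨hM2, hA2⟩, hnc⟩ := hcyc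
  have hu := unique_of_dvd hB hM2 (hAi hA2)
  obtain ⟨h8, hgen⟩ := quaternion_facts hB hs P (hu P) hnc
  have hM4 : ¬ 2 ^ 2 ∣ Nat.card M := by
    intro h4
    obtain ⟨T, hT⟩ := Sylow.exists_subgroup_card_pow_prime (G := M) 2 h4
    obtain ⟨P', hP'⟩ := ((IsPGroup.of_card hT).map M.subtype).exists_le_sylow
    have hle : (P : Subgroup G) ≤ M := by
      refine hgen M inferInstance ?_
      by_contra hno
      push Not at hno
      obtain ⟨u, v, hu1, hv1, huv⟩ : ∃ u v : T, u ≠ 1 ∧ v ≠ 1 ∧ u ≠ v := by
        classical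
        cases nonempty_fintype T
        have : 2 < Fintype.card T := by rw [← Nat.card_eq_fintype_card, hT]; norm_num
        obtain ⟨u, hu1⟩ := Fintype.exists_ne_of_one_lt_card (by omega) (1 : T)
        obtain ⟨v, hv⟩ := (Fintype.two_lt_card_iff.mp this)
        obtain ⟨b, c, hvb, hvc, hbc⟩ := hv
        by_cases h1 : v = 1
        · subst h1; exact ⟨b, c, hvb.symm, hvc.symm, hbc⟩
        by_cases h2 : b = 1
        · subst h2; exact ⟨v, c, h1, hbc.symm, hvc⟩
        exact ⟨v, b, h1, h2, hvb⟩
      have hord : ∀ w : T, w ≠ 1 → orderOf ((w : M) : G) = 2 := by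
        intro w hw
        obtain ⟨i, hi⟩ := IsPGroup.iff_orderOf.mp (IsPGroup.of_card hT) w
        have hd : orderOf w ∣ 4 := by
          rw [show (4 : ℕ) = Nat.card T by rw [hT]; norm_num]; exact orderOf_dvd_natCard w
        rw [Subgroup.orderOf_coe, Subgroup.orderOf_coe]
        rcases (show i = 0 ∨ i = 1 ∨ i = 2 ∨ 3 ≤ i by omega) with rfl | rfl | rfl | h3
        · exact absurd (orderOf_eq_one_iff.mp (hi.trans (pow_zero 2))) hw
        · simpa using hi
        · exact absurd ((Subgroup.orderOf_coe _).trans ((Subgroup.orderOf_coe w).trans (hi.trans (by norm_num))))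
            (hno _ (w : M).2)
        · have := Nat.le_of_dvd (by norm_num) hd
          have := Nat.pow_le_pow_right two_pos h3
          omega
      have hmem : ∀ w : T, ((w : M) : G) ∈ (P' : Subgroup G) := fun w => hP' ⟨w, w.2, rfl⟩
      obtain ⟨k, hk⟩ := hu P' ⟨_, hmem u⟩ ⟨_, hmem v⟩
        (by rw [Subgroup.orderOf_mk, hord u hu1]) (by rw [Subgroup.orderOf_mk, hord v hv1])
      have hk' : ((v : M) : G) ^ k = ((u : M) : G) := by simpa using congrArg Subtype.val hk
      have hv2 : ((v : M) : G) ^ 2 = 1 := hord v hv1 ▸ pow_orderOf_eq_one _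
      rcases Int.even_or_odd k with ⟨r, rfl⟩ | ⟨r, rfl⟩
      · rw [← two_mul, zpow_mul, zpow_two, ← pow_two, hv2, one_zpow] at hk'
        exact hu1 (Subtype.ext (Subtype.ext hk'.symm))
      · rw [zpow_add, zpow_mul, zpow_two, ← pow_two, hv2, one_zpow, one_mul, zpow_one] at hk'
        exact huv (Subtype.ext (Subtype.ext hk'.symm))
    exact P.not_dvd_index ((hAi hA2).trans (Subgroup.index_dvd_of_le hle))
  by_cases hA4 : ¬ 2 ^ 2 ∣ Nat.card A
  · refine conj_quotient_of_liftOK hB M A B hA hB' hc fun p hp hpM hpA P' => ?_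
    by_cases hp2 : p = 2
    · subst hp2; exact Or.inr ⟨hu P', hM4, hA4⟩
    · exact Or.inl (hodd A p hp hp2 hpM hpA P')
  push Not at hA4
  have h2part : (Nat.card (G ⧸ M)).factorization 2 = 2 := by
    have h1 := P.card_eq_multiplicity
    rw [h8] at h1
    have h3 : (Nat.card G).factorization 2 = 3 :=
      (Nat.pow_right_injective le_rfl (show 2 ^ 3 = 2 ^ (Nat.card G).factorization 2 by omega)).symm
    rw [← M.card_mul_index, Nat.factorization_mul Nat.card_pos.ne' Subgroup.index_ne_zero_of_finite,
      Finsupp.add_apply, Subgroup.index_eq_card] at h3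
    have h4 : (Nat.card M).factorization 2 = 1 := by
      have a := (Nat.prime_two.pow_dvd_iff_le_factorization (Nat.card_pos (α := M)).ne').not.mp hM4
      have b := (Nat.prime_two.pow_dvd_iff_le_factorization (k := 1) (Nat.card_pos (α := M)).ne').mp
        (by simpa using hM2)
      omega
    omega
  obtain ⟨V, O, hV, hO, hVO, hVOc⟩ := exists_split A hA
  obtain ⟨W, O', hW, hO', hWO, hWOc⟩ := exists_split B hB'
  have hfull : ∀ (V O : Subgroup (G ⧸ M)), IsPGroup 2 V → ¬ 2 ∣ Nat.card O →
      Nat.card V * Nat.card O = Nat.card A → Nat.card V = 2 ^ 2 := by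
    intro V O hV hO hVOc
    obtain ⟨k, hk⟩ := IsPGroup.iff_card.mp hV
    have h1 : 2 ^ 2 ∣ 2 ^ k := by
      rw [← hk]
      refine (Nat.Coprime.pow_left 2 (Nat.prime_two.coprime_iff_not_dvd.mpr hO)).dvd_of_dvd_mul_right ?_
      rw [hVOc]; exact hA4
    have h2 := (Nat.prime_two.pow_dvd_iff_le_factorization (Nat.card_pos (α := G ⧸ M)).ne').mp
      (hk ▸ V.card_subgroup_dvd_card)
    have h3 := (Nat.pow_dvd_pow_iff_le_right (by norm_num : 1 < 2)).mp h1
    rw [hk, show k = 2 by omega]
  have hVc := hfull V O hV hO hVOc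
  have hWc := hfull W O' hW hO' (hWOc.trans hc.symm)
  have hOc : Nat.card O = Nat.card O' := by
    have := hVOc.trans (hc.trans hWOc.symm)
    rw [hVc, hWc] at this
    exact Nat.eq_of_mul_eq_mul_left (by norm_num) this
  have hOA : O ≤ A := hVO ▸ le_sup_right
  have hOB : O' ≤ B := hWO ▸ le_sup_right
  obtain ⟨g, hg⟩ := conj_quotient_of_liftOK hB M O O'
    (Subgroup.le_centralizer_iff_isMulCommutative.mp (hOA.trans ((Subgroup.le_centralizer A).trans
      (Subgroup.centralizer_le hOA))))
    (Subgroup.le_centralizer_iff_isMulCommutative.mp (hOB.trans ((Subgroup.le_centralizer B).trans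
      (Subgroup.centralizer_le hOB))))
    hOc (fun p hp hpM hpO P' => Or.inl (hodd O p hp (fun h => hO (h ▸ hpO)) hpM hpO P'))
  set V₁ := V.map (MulAut.conj g).toMonoidHom with hV₁
  set C := Subgroup.centralizer (O' : Set (G ⧸ M))
  have hWC : W ≤ C := (hWO ▸ le_sup_left : W ≤ B).trans
    ((Subgroup.le_centralizer B).trans (Subgroup.centralizer_le hOB))
  have hVC : V₁ ≤ C := by
    rintro _ ⟨v, hv, rfl⟩
    refine Subgroup.mem_centralizer_iff.mpr fun o ho => ?_
    rw [SetLike.mem_coe, hg] at ho
    obtain ⟨o, ho, rfl⟩ := ho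
    have := congrArg Subtype.val (hA.is_comm.comm ⟨o, hOA ho⟩ ⟨v, (hVO ▸ le_sup_left : V ≤ A) hv⟩)
    rw [← map_mul, ← map_mul]
    exact congrArg _ this
  have hsylow : ∀ U : Subgroup (G ⧸ M), Nat.card U = 2 ^ 2 → U ≤ C →
      ∃ S : Sylow 2 C, (S : Subgroup C) = U.subgroupOf C := by
    intro U hU hUC
    have h1 : Nat.card (U.subgroupOf C) = 2 ^ 2 := (Nat.card_congr (Subgroup.subgroupOfEquivOfLe hUC).toEquiv).trans hU
    obtain ⟨S, hS⟩ := (IsPGroup.of_card h1).exists_le_sylow
    refine ⟨S, (Subgroup.eq_of_le_of_card_ge hS ?_).symm⟩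
    rw [h1, S.card_eq_multiplicity]
    refine Nat.pow_le_pow_right two_pos ?_
    exact le_of_le_of_eq ((Nat.factorization_le_iff_dvd Nat.card_pos.ne' Nat.card_pos.ne').mpr
      C.card_subgroup_dvd_card 2) h2part
  obtain ⟨S₁, hS₁⟩ := hsylow V₁ (by
    rw [hV₁, Subgroup.card_map_of_injective (MulAut.conj g).injective, hVc]) hVC
  obtain ⟨S₂, hS₂⟩ := hsylow W hWc hWC
  obtain ⟨c, hc'⟩ := MulAction.exists_smul_eq C S₁ S₂
  have hWeq : W = V₁.map (MulAut.conj (c : G ⧸ M)).toMonoidHom := by
    have h1 : W.subgroupOf C = (V₁.subgroupOf C).map (MulAut.conj c).toMonoidHom := by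
      rw [← hS₁, ← hS₂, ← hc']; rfl
    rw [← Subgroup.map_subgroupOf_eq_of_le hWC, h1, Subgroup.map_map]
    conv_rhs => rw [← Subgroup.map_subgroupOf_eq_of_le hVC, Subgroup.map_map]
    rfl
  have hOfix : O'.map (MulAut.conj (c : G ⧸ M)).toMonoidHom = O' := by
    have hfix : ∀ o ∈ O', (MulAut.conj (c : G ⧸ M)) o = o := fun o ho => by
      rw [MulAut.conj_apply, ← Subgroup.mem_centralizer_iff.mp c.2 o ho, mul_inv_cancel_right]
    ext o
    constructor
    · rintro ⟨o', ho', rfl⟩
      show (MulAut.conj (c : G ⧸ M)) o' ∈ O'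
      rw [hfix o' ho']; exact ho'
    · exact fun ho => ⟨o, ho, hfix o ho⟩
  refine ⟨c * g, ?_⟩
  have hcomp : (MulAut.conj ((c : G ⧸ M) * g)).toMonoidHom =
      (MulAut.conj (c : G ⧸ M)).toMonoidHom.comp (MulAut.conj g).toMonoidHom := by
    ext y; simp
  rw [hcomp, ← Subgroup.map_map, ← hVO, ← hWO, Subgroup.map_sup, ← hg, ← hV₁, Subgroup.map_sup,
    ← hWeq, hOfix]

end Cfsg.Agent.Lib.AbelianConj
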