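import Mathlib

/-!
A coprime group of automorphisms of an elementary abelian group, transitive on the lines (helper67):
its normal elementary abelian subgroups are cyclic; a group fixing all subgroups of one given
intermediate order is abelian.
-/

set_option autoImplicit false

namespace Cfsg.Agent.Lib.AbelianConj

variable {Q P : Type*} [Group Q] [Finite Q] [CommGroup P] [Finite P] (φ : Q →* MulAut P) {p : ℕ}

theorem comp_apply (x y : Q) (v : P) : φ (x * y) v = φ x (φ y v) := by rw [map_mul]; rfl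

theorem card_dvd_prime_of_transitive (hinj : Function.Injective φ) (hp : p.Prime)
    (hexp : ∀ v : P, v ^ p = 1) (hQp : ¬ p ∣ Nat.card Q)
    (htr : ∀ v w : P, v ≠ 1 → w ≠ 1 → ∃ q : Q, w ∈ Subgroup.zpowers (φ q v))
    (hne : ∃ v : P, v ≠ 1)
    (N : Subgroup Q) [hNn : N.Normal] {s : ℕ} (hs : s.Prime) (hNc : ∀ a ∈ N, ∀ b ∈ N, a * b = b * a)
    (hNs : ∀ a ∈ N, a ^ s = 1) : Nat.card N ∣ s := by
  by_contra hcard
  obtain ⟨v₁, hv₁⟩ := hne
  have hnofix : ∀ w : P, (∀ n ∈ N, φ n w = w) → w = 1 := by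
    intro w hw
    by_contra hw1
    apply hcard
    have hbot : N = ⊥ := by
      rw [Subgroup.eq_bot_iff_forall]
      intro n hn
      refine hinj ?_
      rw [map_one]
      refine MulEquiv.ext fun u => ?_
      show φ n u = u
      by_cases hu : u = 1
      · rw [hu, map_one]
      obtain ⟨q, hq⟩ := htr w u hw1 hu
      obtain ⟨k, rfl⟩ := Subgroup.mem_zpowers_iff.mp hq
      rw [map_zpow, ← comp_apply, show n * q = q * (q⁻¹ * n * q) by group, comp_apply,
        hw _ (by simpa using hNn.conj_mem n hn q⁻¹)]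
    rw [hbot, Subgroup.card_bot]; exact one_dvd s
  have hcomm : ∀ a ∈ N, ∀ b ∈ N, ∀ v : P, φ a (φ b v) = φ b (φ a v) := fun a ha b hb v => by
    rw [← comp_apply, ← comp_apply, hNc a ha b hb]
  have hsp : s ≠ p := by
    rintro rfl
    refine hcard ?_
    have hbot : N = ⊥ := by
      rw [Subgroup.eq_bot_iff_forall]
      intro n hn
      rw [← orderOf_eq_one_iff]
      rcases (Nat.dvd_prime hs).mp (orderOf_dvd_of_pow_eq_one (hNs n hn)) with h | h
      · exact h
      · exact absurd (h ▸ orderOf_dvd_natCard n) hQp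
    rw [hbot, Subgroup.card_bot]; exact one_dvd s
  -- a maximal subgroup of `N` with a fixed point
  obtain ⟨H, hH⟩ := (Set.toFinite {H : Subgroup Q | H ≤ N ∧ ∃ w : P, w ≠ 1 ∧ ∀ h ∈ H, φ h w = w}).exists_maximal
    ⟨⊥, bot_le, v₁, hv₁, fun h hh => by rw [Subgroup.mem_bot.mp hh, map_one]; rfl⟩
  obtain ⟨⟨hHN, v₀, hv₀, hfix⟩, -⟩ := And.intro hH.1 trivial
  have hmax : ∀ x ∈ N, x ∉ H → N ≤ H ⊔ Subgroup.zpowers x := by
    intro a ha haH
    by_contra hnot
    obtain ⟨b, hb, hbH⟩ := SetLike.not_le_iff_exists.mp hnot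
    have hfree : ∀ g ∈ N, g ∉ H → ∏ j ∈ Finset.range s, φ (g ^ j) v₀ = 1 := by
      intro g hg hgH
      by_contra hne1
      refine hgH (hH.2 (y := H ⊔ Subgroup.zpowers g) ⟨sup_le hHN (Subgroup.zpowers_le.mpr hg), _, hne1, ?_⟩
        le_sup_left (Subgroup.mem_sup_right (Subgroup.mem_zpowers g)))
      intro h hh
      let S : Subgroup Q :=
        { carrier := {y | φ y (∏ j ∈ Finset.range s, φ (g ^ j) v₀) = ∏ j ∈ Finset.range s, φ (g ^ j) v₀}
          one_mem' := by simp
          mul_mem' := fun {x y} hx hy => by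
            simp only [Set.mem_setOf_eq] at hx hy ⊢
            rw [comp_apply, hy, hx]
          inv_mem' := fun {x} hx => by
            simp only [Set.mem_setOf_eq] at hx ⊢
            conv_lhs => rw [← hx]
            rw [← comp_apply, inv_mul_cancel, map_one]; rfl }
      suffices H ⊔ Subgroup.zpowers g ≤ S from this hh
      refine sup_le (fun y hy => ?_) (Subgroup.zpowers_le.mpr ?_)
      · show φ y _ = _
        rw [map_prod]
        refine Finset.prod_congr rfl fun j _ => ?_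
        rw [hcomm y (hHN hy) _ (pow_mem hg j), hfix y hy]
      · show φ g _ = _
        rw [map_prod]
        obtain ⟨m, hm⟩ := Nat.exists_eq_succ_of_ne_zero hs.ne_zero
        rw [hm, Finset.prod_range_succ (fun j => φ g (φ (g ^ j) v₀)) m,
          Finset.prod_range_succ' (fun j => φ (g ^ j) v₀) m]
        have hlast : φ g (φ (g ^ m) v₀) = φ (g ^ 0) v₀ := by
          rw [← comp_apply, ← pow_succ', show m + 1 = s from hm.symm, hNs g hg, pow_zero]
        rw [hlast]
        refine congrArg (· * _) (Finset.prod_congr rfl fun j _ => ?_)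
        rw [← comp_apply, ← pow_succ']
    have hbj : ∀ j : ℕ, 0 < j → j < s → b ^ j ∉ H := by
      intro j hj0 hjs hmem
      refine hbH (Subgroup.mem_sup_left ?_)
      have hob : orderOf b ∣ s := orderOf_dvd_of_pow_eq_one (hNs b hb)
      obtain ⟨k, hk⟩ := exists_pow_eq_self_of_coprime (x := b) (n := j)
        (Nat.Coprime.coprime_dvd_right hob (Nat.Coprime.symm
          (hs.coprime_iff_not_dvd.mpr fun hd => absurd (Nat.le_of_dvd hj0 hd) hjs.not_ge)))
      exact hk ▸ pow_mem hmem k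
    have hab : ∀ i : ℕ, a * b ^ i ∉ H := by
      intro i hmem
      by_cases hi : s ∣ i
      · obtain ⟨c, rfl⟩ := hi
        rw [pow_mul, hNs b hb, one_pow, mul_one] at hmem
        exact haH hmem
      · refine hbH ?_
        have h1 : b ^ i ∈ H ⊔ Subgroup.zpowers a := by
          have := mul_mem (inv_mem (Subgroup.mem_sup_right (S := H) (Subgroup.mem_zpowers a)))
            (Subgroup.mem_sup_left (T := Subgroup.zpowers a) hmem)
          simpa using this
        obtain ⟨k, hk⟩ := exists_pow_eq_self_of_coprime (x := b) (n := i)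
          (Nat.Coprime.coprime_dvd_right (orderOf_dvd_of_pow_eq_one (hNs b hb))
            (hs.coprime_iff_not_dvd.mpr hi).symm)
        exact hk ▸ pow_mem h1 k
    have h0 : ∏ i ∈ Finset.range s, ∏ j ∈ Finset.range s, φ ((a * b ^ i) ^ j) v₀ = 1 :=
      Finset.prod_eq_one fun i _ => hfree _ (mul_mem ha (pow_mem hb i)) (hab i)
    rw [Finset.prod_comm] at h0
    have hz : ∀ j ∈ Finset.range s, j ≠ 0 → ∏ i ∈ Finset.range s, φ ((a * b ^ i) ^ j) v₀ = 1 := by
      intro j hj hj0
      have hc : Commute a b := hNc a ha b hb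
      have e : ∀ i, φ ((a * b ^ i) ^ j) v₀ = φ (a ^ j) (φ ((b ^ j) ^ i) v₀) := fun i => by
        rw [(hc.pow_right i).mul_pow, comp_apply, ← pow_mul, ← pow_mul, mul_comm]
      rw [Finset.prod_congr rfl fun i _ => e i, ← map_prod,
        hfree _ (pow_mem hb j) (hbj j (Nat.pos_of_ne_zero hj0) (Finset.mem_range.mp hj)), map_one]
    rw [Finset.prod_eq_single_of_mem 0 (Finset.mem_range.mpr hs.pos) hz] at h0
    simp only [pow_zero, map_one] at h0
    have h1 : v₀ ^ s = 1 := by simpa using h0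
    refine hv₀ (orderOf_eq_one_iff.mp ?_)
    exact Nat.eq_one_of_dvd_coprimes ((Nat.coprime_primes hs hp).mpr hsp)
      (orderOf_dvd_of_pow_eq_one h1) (orderOf_dvd_of_pow_eq_one (hexp v₀))
  have hHne : H ≠ N := fun h => hv₀ (hnofix v₀ fun n hn => hfix n (h ▸ hn))
  obtain ⟨x, hxN, hxH⟩ : ∃ x ∈ N, x ∉ H := by
    by_contra hall
    push Not at hall
    exact hHne (le_antisymm hHN fun y hy => hall y hy)
  obtain ⟨h₁, hh₁, hh₁1⟩ : ∃ h ∈ H, h ≠ 1 := by
    by_contra hall
    push Not at hall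
    have hbot : H = ⊥ := (Subgroup.eq_bot_iff_forall H).mpr hall
    apply hcard
    have h1 := hmax x hxN hxH
    rw [hbot, bot_sup_eq] at h1
    have h2 := Subgroup.card_dvd_of_le h1
    rw [Nat.card_zpowers] at h2
    exact h2.trans (orderOf_dvd_of_pow_eq_one (hNs x hxN))
  obtain ⟨w, hw⟩ : ∃ w : P, φ h₁ w ≠ w := by
    by_contra hall
    push Not at hall
    exact hh₁1 (hinj (MulEquiv.ext fun u => by rw [hall u, map_one]; rfl))
  -- every vector is fixed by a maximal subgroup
  have hfixed : ∀ u : P, u ≠ 1 → ∃ K : Subgroup Q, K ≤ N ∧ (∀ k ∈ K, φ k u = u) ∧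
      ∀ y ∈ N, y ∉ K → N ≤ K ⊔ Subgroup.zpowers y := by
    intro u hu
    obtain ⟨q, hq⟩ := htr v₀ u hv₀ hu
    refine ⟨H.map (MulAut.conj q).toMonoidHom, ?_, ?_, ?_⟩
    · rintro _ ⟨h, hh, rfl⟩
      exact hNn.conj_mem h (hHN hh) q
    · rintro _ ⟨h, hh, rfl⟩
      obtain ⟨k, rfl⟩ := Subgroup.mem_zpowers_iff.mp hq
      show φ (q * h * q⁻¹) _ = _
      rw [map_zpow, ← comp_apply, show q * h * q⁻¹ * q = q * h by group, comp_apply, hfix h hh]
    · intro y hy hyK n hn
      have hy' : q⁻¹ * y * q ∈ N := by simpa using hNn.conj_mem y hy q⁻¹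
      have hy'' : q⁻¹ * y * q ∉ H := fun h => hyK ⟨_, h, by simp [mul_assoc]⟩
      have h1 : (MulAut.conj q).toMonoidHom (q⁻¹ * n * q) ∈
          (H ⊔ Subgroup.zpowers (q⁻¹ * y * q)).map (MulAut.conj q).toMonoidHom :=
        Subgroup.mem_map_of_mem _ (hmax _ hy' hy'' (by simpa using hNn.conj_mem n hn q⁻¹))
      rw [Subgroup.map_sup, MonoidHom.map_zpowers] at h1
      simpa [mul_assoc] using h1
  have hjoin : ∀ (K K' : Subgroup Q) (u : P), K' ≤ N →
      (∀ y ∈ N, y ∉ K → N ≤ K ⊔ Subgroup.zpowers y) →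
      ¬ K' ≤ K → (∀ k ∈ K, φ k u = u) → (∀ k ∈ K', φ k u = u) → u = 1 := by
    intro K K' u hK' hKmax hle h1 h2
    obtain ⟨y, hy, hyK⟩ := SetLike.not_le_iff_exists.mp hle
    refine hnofix u fun n hn => ?_
    let S : Subgroup Q :=
      { carrier := {z | φ z u = u}
        one_mem' := by simp
        mul_mem' := fun {a b} ha hb => by
          simp only [Set.mem_setOf_eq] at ha hb ⊢
          rw [comp_apply, hb, ha]
        inv_mem' := fun {a} ha => by
          simp only [Set.mem_setOf_eq] at ha ⊢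
          conv_lhs => rw [← ha]
          rw [← comp_apply, inv_mul_cancel, map_one]; rfl }
    exact (sup_le h1 (Subgroup.zpowers_le.mpr (show y ∈ S from h2 y hy))) (hKmax y (hK' hy) hyK hn)
  have hw1 : w ≠ 1 := fun h => hw (by rw [h, map_one])
  obtain ⟨L, hLN, hLfix, hLmax⟩ := hfixed w hw1
  have hLH : ¬ H ≤ L := fun h => hw (hLfix h₁ (h hh₁))
  have hu : v₀ * w ≠ 1 := fun h => hw (by
    rw [eq_inv_of_mul_eq_one_right h, map_inv, hfix h₁ hh₁])
  obtain ⟨K, hKN, hKfix, hKmax⟩ := hfixed _ hu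
  by_cases hLK : L ≤ K
  · -- then `L` fixes `v₀`
    have hLv : ∀ k ∈ L, φ k v₀ = v₀ := fun k hk => by
      have := hKfix k (hLK hk)
      rw [map_mul, hLfix k hk] at this
      exact mul_right_cancel this
    exact hv₀ (hjoin L H v₀ hHN hLmax hLH hLv hfix)
  · refine hw1 (hjoin L H w hHN hLmax hLH hLfix fun h hh => ?_)
    have h1 : φ h w * w⁻¹ = 1 := by
      refine hjoin K L _ hLN hKmax hLK ?_ ?_
      · intro k hk
        have e : φ h w * w⁻¹ = φ h (v₀ * w) * (v₀ * w)⁻¹ := by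
          rw [map_mul, hfix h hh, mul_inv_rev, mul_comm w⁻¹, ← mul_assoc, mul_right_comm v₀,
            mul_inv_cancel, one_mul]
        rw [e, map_mul, map_inv, hKfix k hk, hcomm k (hKN hk) h (hHN hh), hKfix k hk]
      · intro k hk
        rw [map_mul, map_inv, hLfix k hk, hcomm k (hLN hk) h (hHN hh), hLfix k hk]
    exact mul_inv_eq_one.mp h1

/-- Automorphisms fixing every subgroup of order `p ^ k` commute. -/
theorem commute_of_invariant [hp : Fact p.Prime] (hexp : ∀ v : P, v ^ p = 1) {k : ℕ} (hk : 1 ≤ k)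
    (hkP : p ^ k < Nat.card P) (α β : MulAut P)
    (hα : ∀ D : Subgroup P, Nat.card D = p ^ k → ∀ d ∈ D, α d ∈ D)
    (hβ : ∀ D : Subgroup P, Nat.card D = p ^ k → ∀ d ∈ D, β d ∈ D) : α * β = β * α := by
  have hline : ∀ γ : MulAut P, (∀ D : Subgroup P, Nat.card D = p ^ k → ∀ d ∈ D, γ d ∈ D) →
      ∀ v : P, γ v ∈ Subgroup.zpowers v := by
    intro γ hγ v
    by_contra hu
    have hv1 : v ≠ 1 := fun h => hu (by rw [h, map_one]; exact one_mem _)
    set u := γ v
    obtain ⟨S, hS⟩ := (Set.toFinite {S : Subgroup P | v ∈ S ∧ u ∉ S}).exists_maximal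
      ⟨Subgroup.zpowers v, Subgroup.mem_zpowers v, hu⟩
    have htop : S ⊔ Subgroup.zpowers u = ⊤ := by
      rw [eq_top_iff]
      intro y _
      by_cases hy : y ∈ S
      · exact Subgroup.mem_sup_left hy
      have h1 : u ∈ S ⊔ Subgroup.zpowers y := by
        by_contra h1
        exact hy (hS.2 ⟨Subgroup.mem_sup_left hS.1.1, h1⟩ le_sup_left
          (Subgroup.mem_sup_right (Subgroup.mem_zpowers y)))
      obtain ⟨s, hs, z, ⟨i, rfl⟩, hz⟩ := Subgroup.mem_sup.mp h1
      change s * y ^ i = u at hz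
      have hyi : y ^ i ∈ S ⊔ Subgroup.zpowers u := by
        rw [show y ^ i = s⁻¹ * u by rw [← hz]; group]
        exact mul_mem (Subgroup.mem_sup_left (inv_mem hs)) (Subgroup.mem_sup_right (Subgroup.mem_zpowers u))
      have hpi : ¬ (p : ℤ) ∣ i := by
        rintro ⟨c, rfl⟩
        rw [zpow_mul, zpow_natCast, hexp, one_zpow, mul_one] at hz
        exact hS.1.2 (hz ▸ hs)
      obtain ⟨a, b, hab⟩ : IsCoprime i (p : ℤ) :=
        ((Nat.prime_iff_prime_int.mp hp.out).coprime_iff_not_dvd.mpr hpi).symm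
      have : y = (y ^ i) ^ a := by
        conv_lhs => rw [← zpow_one y, ← hab]
        rw [zpow_add, mul_comm b, zpow_mul y (p : ℤ) b, zpow_natCast, hexp, one_zpow, mul_one, mul_comm a,
          zpow_mul]
      rw [this]; exact zpow_mem hyi a
    have hcard : Nat.card P ≤ Nat.card S * p := by
      have h1 : Nat.card (S ⊔ Subgroup.zpowers u : Subgroup P) ≤
          Nat.card S * Nat.card (Subgroup.zpowers u) := by
        rw [← Nat.card_prod]
        refine Nat.card_le_card_of_surjective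
          (fun x : S × Subgroup.zpowers u => (⟨x.1 * x.2, mul_mem (Subgroup.mem_sup_left x.1.2)
            (Subgroup.mem_sup_right x.2.2)⟩ : (S ⊔ Subgroup.zpowers u : Subgroup P))) fun y => ?_
        obtain ⟨a, ha, b, hb, hab⟩ := Subgroup.mem_sup.mp y.2
        exact ⟨(⟨a, ha⟩, ⟨b, hb⟩), Subtype.ext hab⟩
      rw [htop, Subgroup.card_top, Nat.card_zpowers] at h1
      exact h1.trans (Nat.mul_le_mul_left _
        (Nat.le_of_dvd hp.out.pos (orderOf_dvd_of_pow_eq_one (hexp u))))
    have hP : IsPGroup p P := fun y => ⟨1, by rw [pow_one]; exact hexp y⟩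
    obtain ⟨j, hj⟩ := IsPGroup.iff_card.mp (hP.to_subgroup S)
    have hkj : k ≤ j := by
      have h2 : p ^ k < p ^ (j + 1) := by rw [pow_succ, ← hj]; omega
      have := (Nat.pow_lt_pow_iff_right hp.out.one_lt).mp h2
      omega
    obtain ⟨D, hD, hvD⟩ := Sylow.exists_subgroup_card_pow_prime_le (G := S) p
      (n := 1) (m := k) (hj ▸ Nat.pow_dvd_pow p hkj)
      ((Subgroup.zpowers (⟨v, hS.1.1⟩ : S)))
      (by rw [Nat.card_zpowers, Subgroup.orderOf_mk, pow_one, orderOf_eq_prime (hexp v) hv1]) hk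
    have h3 := hγ (D.map S.subtype) (by rw [Subgroup.card_subtype, hD]) v
      ⟨⟨v, hS.1.1⟩, hvD (Subgroup.mem_zpowers _), rfl⟩
    exact hS.1.2 (Subgroup.map_subtype_le D h3)
  refine MulEquiv.ext fun v => ?_
  obtain ⟨i, hi⟩ := Subgroup.mem_zpowers_iff.mp (hline α hα v)
  obtain ⟨j, hj⟩ := Subgroup.mem_zpowers_iff.mp (hline β hβ v)
  show α (β v) = β (α v)
  rw [← hj, ← hi, map_zpow, map_zpow, ← hi, ← hj, ← zpow_mul, ← zpow_mul, mul_comm]

end Cfsg.Agent.Lib.AbelianConj
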