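import Cfsg.Agent.Lib.AbelianConj.Structure
import Cfsg.Agent.Lib.AbelianConj.Transitive
import Cfsg.Agent.Lib.SZ.Conjugacy
import Cfsg.Agent.S3909

/-!
In a soluble group with conjugate abelian subgroups of equal order all subgroups of equal order are
conjugate (helper67).
-/

set_option autoImplicit false

namespace Cfsg.Agent.Lib.AbelianConj

open Cfsg
open scoped Pointwise

universe u

variable {G : Type*} [Group G] [Finite G]

theorem map_map_conj {N : Subgroup G} [N.Normal] (g : G) (A : Subgroup G) :
    (A.map (MulAut.conj g).toMonoidHom).map (QuotientGroup.mk' N) =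
      (A.map (QuotientGroup.mk' N)).map (MulAut.conj (QuotientGroup.mk' N g)).toMonoidHom := by
  rw [Subgroup.map_map, Subgroup.map_map]
  congr 1

theorem card_map_conj (g : G) (A : Subgroup G) :
    Nat.card (A.map (MulAut.conj g).toMonoidHom) = Nat.card A :=
  Subgroup.card_map_of_injective (MulAut.conj g).injective

theorem exists_sup_eq {M : Subgroup G} [M.Normal] {A B : Subgroup G}
    (himg : ∃ q : G ⧸ M, B.map (QuotientGroup.mk' M) =
      (A.map (QuotientGroup.mk' M)).map (MulAut.conj q).toMonoidHom) :
    ∃ g : G, A.map (MulAut.conj g).toMonoidHom ⊔ M = B ⊔ M := by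
  obtain ⟨q, hq⟩ := himg
  obtain ⟨g, rfl⟩ := QuotientGroup.mk'_surjective M q
  rw [← map_map_conj] at hq
  have := Subgroup.map_eq_map_iff.mp hq
  rw [QuotientGroup.ker_mk'] at this
  exact ⟨g, this.symm⟩

theorem map_conj_mul (a b : G) (A : Subgroup G) :
    (A.map (MulAut.conj b).toMonoidHom).map (MulAut.conj a).toMonoidHom =
      A.map (MulAut.conj (a * b)).toMonoidHom := by
  rw [Subgroup.map_map]
  congr 1
  ext y
  simp

theorem conj_of_quotient_le (M : Subgroup G) [M.Normal] (A B : Subgroup G) (hA : M ≤ A) (hB : M ≤ B)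
    (himg : ∃ q : G ⧸ M, B.map (QuotientGroup.mk' M) =
      (A.map (QuotientGroup.mk' M)).map (MulAut.conj q).toMonoidHom) :
    ∃ g : G, B = A.map (MulAut.conj g).toMonoidHom := by
  obtain ⟨g, hg⟩ := exists_sup_eq himg
  have hM : M ≤ A.map (MulAut.conj g).toMonoidHom := fun m hm =>
    ⟨g⁻¹ * m * g, hA (by simpa using (inferInstance : M.Normal).conj_mem m hm g⁻¹), by simp [mul_assoc]⟩
  rw [sup_eq_left.mpr hM, sup_eq_left.mpr hB] at hg
  exact ⟨g, hg.symm⟩

theorem conj_of_quotient_coprime [Group.IsSolvable G] (M : Subgroup G) [M.Normal]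
    (A B : Subgroup G) (hc : Nat.card A = Nat.card B) (hcop : (Nat.card A).Coprime (Nat.card M))
    (himg : ∃ q : G ⧸ M, B.map (QuotientGroup.mk' M) =
      (A.map (QuotientGroup.mk' M)).map (MulAut.conj q).toMonoidHom) :
    ∃ g : G, B = A.map (MulAut.conj g).toMonoidHom := by
  obtain ⟨g, hg⟩ := exists_sup_eq himg
  set A' := A.map (MulAut.conj g).toMonoidHom with hA'
  set X := A' ⊔ M with hX
  have hAX : A' ≤ X := le_sup_left
  have hMX : M ≤ X := le_sup_right
  have hBX : B ≤ X := hg.symm ▸ le_sup_left
  have hcard : Nat.card X = Nat.card A * Nat.card M := by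
    rw [hX, SZ.card_sup_of_coprime A' M (by rwa [hA', card_map_conj]), hA', card_map_conj]
  have hidx : (M.subgroupOf X).index = Nat.card A := by
    have h1 := (M.subgroupOf X).card_mul_index
    rw [SZ.card_subgroupOf hMX, hcard, mul_comm (Nat.card A)] at h1
    exact Nat.eq_of_mul_eq_mul_left Nat.card_pos h1
  obtain ⟨x, -, hx⟩ := SZ.exists_mem_conj_of_card_eq_index (M.subgroupOf X) (A'.subgroupOf X) (B.subgroupOf X)
    (by rw [SZ.card_subgroupOf hMX, hidx]; exact hcop.symm)
    (Or.inl inferInstance)
    (by rw [SZ.card_subgroupOf hAX, hidx, hA', card_map_conj])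
    (by rw [SZ.card_subgroupOf hBX, hidx, hc])
  have h2 : MulAut.conj (x : G) • A' = B := SZ.exists_conj_of_subgroupOf hAX hBX x hx
  refine ⟨(x : G) * g, ?_⟩
  rw [← map_conj_mul, ← hA', ← h2]
  rfl

theorem card_quotient_lt {M : Subgroup G} [M.Normal] (hne : M ≠ ⊥) : Nat.card (G ⧸ M) < Nat.card G := by
  rw [← M.card_mul_index, Subgroup.index_eq_card]
  exact lt_mul_of_one_lt_left Nat.card_pos (M.one_lt_card_iff_ne_bot.mpr hne)

/-- Subgroups of the same order whose primes have cyclic Sylow subgroups are conjugate. -/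
theorem conj_of_cyclic : ∀ (n : ℕ) (G : Type u) [Group G] [Finite G], Nat.card G = n →
    Group.IsSolvable G → ∀ A B : Subgroup G, Nat.card A = Nat.card B →
      (∀ p : ℕ, p.Prime → p ∣ Nat.card A → ∀ P : Sylow p G, IsCyclic (P : Subgroup G)) →
      ∃ g : G, B = A.map (MulAut.conj g).toMonoidHom := by
  intro n
  induction n using Nat.strong_induction_on with
  | _ n ih =>
    intro G _ _ hn hs A B hc hcyc
    haveI := hs
    by_cases htriv : (⊤ : Subgroup G) = ⊥
    · refine ⟨1, ?_⟩
      have : ∀ C : Subgroup G, C = ⊥ := fun C => le_bot_iff.mp (htriv ▸ le_top)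
      rw [this B, this A, Subgroup.map_bot]
    obtain ⟨M, hMn, hMb, -, hMmin⟩ := MinimalNormal.exists_minimal_normal_le
      (inferInstance : (⊤ : Subgroup G).Normal) htriv
    haveI := hMn
    obtain ⟨-, p, hp, hMp⟩ := MinimalNormal.elementaryAbelian M hMb hMmin
    haveI := Fact.mk hp
    have hMpg : IsPGroup p M := fun x => ⟨1, Subtype.ext (by simpa using hMp x x.2)⟩
    obtain ⟨k, hk⟩ := IsPGroup.iff_card.mp hMpg
    have hqcyc : ∀ r : ℕ, r.Prime → r ∣ Nat.card A → ∀ P : Sylow r (G ⧸ M), IsCyclic (P : Subgroup (G ⧸ M)) := by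
      intro r hr hrA P
      haveI := Fact.mk hr
      obtain ⟨P₀, rfl⟩ := Sylow.mapSurjective_surjective (QuotientGroup.mk'_surjective M) r P
      haveI := hcyc r hr hrA P₀
      exact isCyclic_of_surjective ((QuotientGroup.mk' M).subgroupMap (P₀ : Subgroup G))
        (MonoidHom.subgroupMap_surjective _ _)
    have himg : Nat.card (A.map (QuotientGroup.mk' M)) = Nat.card (B.map (QuotientGroup.mk' M)) →
        ∃ q : G ⧸ M, B.map (QuotientGroup.mk' M) =
          (A.map (QuotientGroup.mk' M)).map (MulAut.conj q).toMonoidHom := fun h =>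
      ih (Nat.card (G ⧸ M)) (hn ▸ card_quotient_lt hMb) (G ⧸ M) rfl inferInstance _ _ h
        fun r hr hrd => hqcyc r hr (hrd.trans (Subgroup.card_map_dvd ..))
    by_cases hpA : p ∣ Nat.card A
    · have hle : ∀ C : Subgroup G, p ∣ Nat.card C → M ≤ C := by
        intro C hpC
        obtain ⟨x, hx⟩ := exists_prime_orderOf_dvd_card' (G := C) p hpC
        obtain ⟨P, hP⟩ := (IsPGroup.of_card (n := 1) (show Nat.card (Subgroup.zpowers (x : G)) = p ^ 1 by
          rw [Nat.card_zpowers, Subgroup.orderOf_coe, hx, pow_one])).exists_le_sylow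
        haveI := hcyc p hp hpA P
        have hMP : M ≤ (P : Subgroup G) := hMpg.le_sylow_of_normal P
        have hMcard : Nat.card M ∣ p := by
          haveI : IsCyclic M := isCyclic_of_injective (Subgroup.inclusion hMP) (Subgroup.inclusion_injective hMP)
          obtain ⟨g, hg⟩ := IsCyclic.exists_generator (α := M)
          rw [← orderOf_eq_card_of_forall_mem_zpowers hg]
          exact orderOf_dvd_of_pow_eq_one (Subtype.ext (hMp g g.2))
        have h1 : M.subgroupOf (P : Subgroup G) ≤ (Subgroup.zpowers (x : G)).subgroupOf (P : Subgroup G) := by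
          refine le_of_card_dvd ?_
          rw [SZ.card_subgroupOf hMP, SZ.card_subgroupOf hP, Nat.card_zpowers, Subgroup.orderOf_coe, hx]
          exact hMcard
        intro m hm
        exact Subgroup.zpowers_le.mpr x.2 (h1 (show (⟨m, hMP hm⟩ : (P : Subgroup G)) ∈ _ from hm))
      have hA := hle A hpA
      have hB := hle B (hc ▸ hpA)
      refine conj_of_quotient_le M A B hA hB (himg ?_)
      have a := SZ.card_map_of_ker_le (QuotientGroup.mk' M) A (by rwa [QuotientGroup.ker_mk'])
      have b := SZ.card_map_of_ker_le (QuotientGroup.mk' M) B (by rwa [QuotientGroup.ker_mk'])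
      exact Nat.eq_of_mul_eq_mul_right Nat.card_pos ((a.trans hc).trans b.symm)
    · have hcop : (Nat.card A).Coprime (Nat.card M) := by
        rw [hk]; exact (Nat.Coprime.pow_left k (hp.coprime_iff_not_dvd.mpr hpA)).symm
      refine conj_of_quotient_coprime M A B hc hcop (himg ?_)
      rw [SZ.card_map_of_coprime _ A (by rwa [QuotientGroup.ker_mk']),
        SZ.card_map_of_coprime _ B (by rw [QuotientGroup.ker_mk', ← hc]; exact hcop), hc]

theorem factorization_inf {p : ℕ} (hp : p.Prime) (N : Subgroup G) [N.Normal]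
    (hN : (Nat.card N).factorization p = (Nat.card G).factorization p) (H : Subgroup G) :
    (Nat.card (H ⊓ N : Subgroup G)).factorization p = (Nat.card H).factorization p := by
  have h1 := congrArg (fun m => Nat.factorization m p) (SZ.card_sup_mul_card_inf H N)
  rw [Nat.factorization_mul Nat.card_pos.ne' Nat.card_pos.ne',
    Nat.factorization_mul Nat.card_pos.ne' Nat.card_pos.ne', Finsupp.add_apply, Finsupp.add_apply] at h1
  have h2 := (Nat.factorization_le_iff_dvd Nat.card_pos.ne' Nat.card_pos.ne').mpr
    (H ⊔ N).card_subgroup_dvd_card p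
  have h3 := (Nat.factorization_le_iff_dvd Nat.card_pos.ne' Nat.card_pos.ne').mpr
    (Subgroup.card_dvd_of_le (le_sup_right : N ≤ H ⊔ N)) p
  omega

theorem orderOf_prime_unique_of_no_rank_two (hB : AbConj G) {r : ℕ} [hr : Fact r.Prime]
    (hno : ∀ E : Subgroup G, Nat.card E = r ^ 2 → (∀ e ∈ E, e ^ r = 1) → False) (R : Sylow r G) :
    ∀ u v : (R : Subgroup G), orderOf u = r → orderOf v = r → u ∈ Subgroup.zpowers v := by
  rcases exponent_or_unique hB R with hexp | h
  · obtain ⟨k, hk⟩ := IsPGroup.iff_card.mp R.2
    intro u v hu hv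
    by_cases hk2 : 2 ≤ k
    · obtain ⟨E, hE⟩ := Sylow.exists_subgroup_card_pow_prime (G := (R : Subgroup G)) r (n := 2)
        (hk ▸ Nat.pow_dvd_pow r hk2)
      refine (hno (E.map (R : Subgroup G).subtype) (by rw [Subgroup.card_subtype, hE]) ?_).elim
      rintro _ ⟨e, -, rfl⟩
      exact hexp _ e.2
    · have htop : Subgroup.zpowers v = ⊤ := by
        refine Subgroup.eq_top_of_card_eq _ ?_
        have h1 : orderOf v ∣ Nat.card (R : Subgroup G) := orderOf_dvd_natCard v
        rw [hv, hk] at h1
        rcases (show k = 0 ∨ k = 1 by omega) with rfl | rfl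
        · exact absurd (Nat.dvd_one.mp (by simpa using h1)) hr.out.ne_one
        · rw [Nat.card_zpowers, hv, hk, pow_one]
      rw [htop]; exact Subgroup.mem_top u
  · exact h

/-- The main induction. -/
theorem conj_of_card_eq : ∀ (n : ℕ) (G : Type u) [Group G] [Finite G], Nat.card G = n →
    AbConj G → Group.IsSolvable G → ∀ A B : Subgroup G, Nat.card A = Nat.card B →
      ∃ g : G, B = A.map (MulAut.conj g).toMonoidHom := by
  intro n
  induction n using Nat.strong_induction_on with
  | _ n ih =>
    intro G _ _ hn hB hs A B hc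
    haveI := hs
    have himg : ∀ (M : Subgroup G) [M.Normal], M ≠ ⊥ →
        Nat.card (A.map (QuotientGroup.mk' M)) = Nat.card (B.map (QuotientGroup.mk' M)) →
        ∃ q : G ⧸ M, B.map (QuotientGroup.mk' M) =
          (A.map (QuotientGroup.mk' M)).map (MulAut.conj q).toMonoidHom := fun M _ hMb h =>
      ih (Nat.card (G ⧸ M)) (hn ▸ card_quotient_lt hMb) (G ⧸ M) rfl (solvable_quotient hB hs M)
        inferInstance _ _ h
    by_cases htriv : (⊤ : Subgroup G) = ⊥
    · refine ⟨1, ?_⟩
      have : ∀ C : Subgroup G, C = ⊥ := fun C => le_bot_iff.mp (htriv ▸ le_top)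
      rw [this B, this A, Subgroup.map_bot]
    by_cases h1 : ∃ M : Subgroup G, M.Normal ∧ M ≠ ⊥ ∧ (Nat.card A).Coprime (Nat.card M)
    · obtain ⟨M, hMn, hMb, hcop⟩ := h1
      haveI := hMn
      refine conj_of_quotient_coprime M A B hc hcop (himg M hMb ?_)
      rw [SZ.card_map_of_coprime _ A (by rwa [QuotientGroup.ker_mk']),
        SZ.card_map_of_coprime _ B (by rw [QuotientGroup.ker_mk', ← hc]; exact hcop), hc]
    by_cases h2 : ∃ M : Subgroup G, M.Normal ∧ M ≠ ⊥ ∧ M ≤ A ∧ M ≤ B
    · obtain ⟨M, hMn, hMb, hMA, hMB⟩ := h2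
      haveI := hMn
      refine conj_of_quotient_le M A B hMA hMB (himg M hMb ?_)
      have a := SZ.card_map_of_ker_le (QuotientGroup.mk' M) A (by rwa [QuotientGroup.ker_mk'])
      have b := SZ.card_map_of_ker_le (QuotientGroup.mk' M) B (by rwa [QuotientGroup.ker_mk'])
      exact Nat.eq_of_mul_eq_mul_right Nat.card_pos ((a.trans hc).trans b.symm)
    push Not at h1 h2
    -- every nontrivial core is an elementary abelian Sylow subgroup
    have hP : ∀ p : ℕ, p.Prime → pCore p G ≠ ⊥ →
        IsElementaryAbelian p (pCore p G) ∧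
          (Nat.card (pCore p G)).factorization p = (Nat.card G).factorization p ∧
          1 ≤ (Nat.card A).factorization p ∧
          (Nat.card A).factorization p < (Nat.card G).factorization p := by
      intro p hp hne
      haveI := Fact.mk hp
      obtain ⟨M, hMn, hMb, hMle, hMmin⟩ := MinimalNormal.exists_minimal_normal_le
        (inferInstance : (pCore p G).Normal) hne
      haveI := hMn
      obtain ⟨hMc, q, hq, hMq⟩ := MinimalNormal.elementaryAbelian M hMb hMmin
      obtain ⟨t, ht⟩ := IsPGroup.iff_card.mp ((PSolvable.pCore_isPGroup (p := p) (G := G)).to_le hMle)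
      have ht0 : t ≠ 0 := fun h => hMb (Subgroup.card_eq_one.mp (by rw [ht, h, pow_zero]))
      obtain ⟨x, hx⟩ := exists_prime_orderOf_dvd_card' (G := M) p (ht ▸ dvd_pow_self p ht0)
      obtain rfl : p = q := (Nat.prime_dvd_prime_iff_eq hp hq).mp (by
        have hd := orderOf_dvd_of_pow_eq_one (hMq x x.2)
        rwa [Subgroup.orderOf_coe, hx] at hd)
      have hpA : p ∣ Nat.card A := by
        have h := h1 M hMn hMb
        rw [ht] at h
        by_contra hnd
        exact h ((hp.coprime_iff_not_dvd.mpr hnd).symm.pow_right t)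
      have hpB : p ∣ Nat.card B := hc ▸ hpA
      have hv1 : 1 ≤ (Nat.card A).factorization p := hp.factorization_pos_of_dvd Nat.card_pos.ne' hpA
      have ht2 : 2 ≤ t := by
        by_contra hlt
        obtain rfl : t = 1 := by omega
        have hsub : ∀ C : Subgroup G, p ∣ Nat.card C → M ≤ C := by
          intro C hpC m hm
          obtain ⟨y, hy⟩ := exists_prime_orderOf_dvd_card' (G := C) p hpC
          have hyM : (y : G) ∈ M := mem_of_orderOf_eq hB x.2
            (by rw [Subgroup.orderOf_coe, Subgroup.orderOf_coe, hy, hx])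
          have h3 : Subgroup.zpowers (y : G) = M := Subgroup.eq_of_le_of_card_ge
            (Subgroup.zpowers_le.mpr hyM) (by rw [ht, Nat.card_zpowers, Subgroup.orderOf_coe, hy, pow_one])
          rw [← h3] at hm
          exact Subgroup.zpowers_le.mpr y.2 hm
        exact h2 M hMn hMb (hsub A hpA) (hsub B hpB)
      obtain ⟨P⟩ : Nonempty (Sylow p G) := inferInstance
      have hPM : (P : Subgroup G) = M := (S3909.result hB M).2 p t ht2 ht ⟨hMc, hMq⟩ P
      have hcore : pCore p G = M := le_antisymm ((PSolvable.pCore_le_sylow P).trans hPM.le) hMle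
      have hfull : (Nat.card M).factorization p = (Nat.card G).factorization p := by
        rw [← hPM, P.card_eq_multiplicity, hp.factorization_pow, Finsupp.single_eq_same]
      refine ⟨hcore ▸ ⟨hMc, hMq⟩, hcore ▸ hfull, hv1, ?_⟩
      by_contra hge
      push Not at hge
      have hin : ∀ C : Subgroup G, (Nat.card G).factorization p ≤ (Nat.card C).factorization p → M ≤ C := by
        intro C hC
        have h4 := factorization_inf hp M hfull C
        obtain ⟨i, hi⟩ := IsPGroup.iff_card.mp ((IsPGroup.of_card ht).to_le (inf_le_right : C ⊓ M ≤ M))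
        rw [hi, hp.factorization_pow, Finsupp.single_eq_same] at h4
        rw [ht, hp.factorization_pow, Finsupp.single_eq_same] at hfull
        have h5 : C ⊓ M = M := Subgroup.eq_of_le_of_card_ge inf_le_right (by
          rw [hi, ht]; exact Nat.pow_le_pow_right hp.pos (by omega))
        exact h5 ▸ inf_le_left
      exact h2 M hMn hMb (hin A hge) (hin B (hc ▸ hge))
    -- the Fitting subgroup
    set F := fittingSubgroup G with hF
    haveI : F.Normal := Fitting.fittingSubgroup_normal
    haveI hFc : IsMulCommutative F := by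
      rw [← Subgroup.le_centralizer_iff_isMulCommutative, hF, Fitting.fittingSubgroup_eq_iSup_pCore]
      refine iSup_le fun p => Subgroup.le_centralizer_iff.mp (iSup_le fun q => ?_)
      intro y hy
      refine Subgroup.mem_centralizer_iff.mpr fun x hx => ?_
      by_cases hqp : q = p
      · subst hqp
        by_cases hb : pCore (q : ℕ) G = ⊥
        · rw [SetLike.mem_coe, hb, Subgroup.mem_bot] at hx
          rw [hx, one_mul, mul_one]
        · exact congrArg Subtype.val ((hP q q.2 hb).1.1.is_comm.comm ⟨x, hx⟩ ⟨y, hy⟩)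
      · haveI := Fact.mk p.2
        haveI := Fact.mk q.2
        refine (Subgroup.commute_of_normal_of_disjoint (pCore (p : ℕ) G) (pCore (q : ℕ) G) inferInstance
          inferInstance ?_ x y hx hy).eq
        rw [disjoint_iff, Subgroup.inf_eq_bot_of_coprime]
        obtain ⟨i, hi⟩ := IsPGroup.iff_card.mp (PSolvable.pCore_isPGroup (p := (p : ℕ)) (G := G))
        obtain ⟨j, hj⟩ := IsPGroup.iff_card.mp (PSolvable.pCore_isPGroup (p := (q : ℕ)) (G := G))
        rw [hi, hj]
        exact Nat.Coprime.pow i j ((Nat.coprime_primes p.2 q.2).mpr fun h => hqp (Subtype.ext h.symm))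
    have hcoreF : ∀ p : ℕ, p.Prime → p ∣ Nat.card F → pCore p G ≠ ⊥ := by
      intro p hp hd hb
      haveI := Fact.mk hp
      obtain ⟨x, hx⟩ := exists_prime_orderOf_dvd_card' (G := F) p hd
      have h3 := mem_pCore_of_mem_fitting (r := p) x.2 (i := 1) (by rw [pow_one, Subgroup.orderOf_coe, hx])
      rw [hb, Subgroup.mem_bot] at h3
      rw [← Subgroup.orderOf_coe, h3, orderOf_one] at hx
      exact hp.one_lt.ne hx
    have hFfull : ∀ p : ℕ, p.Prime → p ∣ Nat.card F →
        (Nat.card F).factorization p = (Nat.card G).factorization p := by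
      intro p hp hd
      haveI := Fact.mk hp
      refine le_antisymm ((Nat.factorization_le_iff_dvd Nat.card_pos.ne' Nat.card_pos.ne').mpr
        F.card_subgroup_dvd_card p) ?_
      rw [← (hP p hp (hcoreF p hp hd)).2.1]
      exact (Nat.factorization_le_iff_dvd Nat.card_pos.ne' Nat.card_pos.ne').mpr
        (Subgroup.card_dvd_of_le (Fitting.pCore_le_fittingSubgroup p)) p
    have hinfF : ∀ (C : Subgroup G) (p : ℕ), p.Prime → (Nat.card (C ⊓ F : Subgroup G)).factorization p =
        if p ∣ Nat.card F then (Nat.card C).factorization p else 0 := by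
      intro C p hp
      split_ifs with hd
      · exact factorization_inf hp F (hFfull p hp hd) C
      · exact Nat.factorization_eq_zero_of_not_dvd fun h => hd (h.trans (Subgroup.card_dvd_of_le inf_le_right))
    have hcI : Nat.card (A ⊓ F : Subgroup G) = Nat.card (B ⊓ F : Subgroup G) :=
      Nat.eq_of_factorization_eq Nat.card_pos.ne' Nat.card_pos.ne' fun p => by
        by_cases hp : p.Prime
        · rw [hinfF A p hp, hinfF B p hp, hc]
        · simp [Nat.factorization_eq_zero_of_not_prime _ hp]
    have habF : ∀ C : Subgroup G, C ≤ F → IsMulCommutative C := fun C hC =>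
      Subgroup.le_centralizer_iff_isMulCommutative.mp
        (hC.trans ((Subgroup.le_centralizer F).trans (Subgroup.centralizer_le hC)))
    obtain ⟨g, hg⟩ := hB (A ⊓ F) (B ⊓ F) (habF _ inf_le_right) (habF _ inf_le_right) hcI
    set A' := A.map (MulAut.conj g).toMonoidHom with hA'
    have hA'F : A' ⊓ F = B ⊓ F := by
      rw [hg, Subgroup.map_inf A F _ (MulAut.conj g).injective, hA']
      congr 1
      exact (Subgroup.Normal.conj_smul_eq_self g F).symm
    have hA'c : Nat.card A' = Nat.card B := (card_map_conj g A).trans hc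
    suffices ∃ x : G, B = A'.map (MulAut.conj x).toMonoidHom by
      obtain ⟨x, hx⟩ := this
      exact ⟨x * g, hx.trans (map_conj_mul x g A)⟩
    set D := B ⊓ F with hD
    set X := Subgroup.normalizer (D : Set G) with hX
    have hDnorm : ∀ C : Subgroup G, C ⊓ F = D → C ≤ X := by
      intro C hC c hcC
      refine Subgroup.mem_normalizer_iff.mpr fun y => ?_
      rw [← hC, Subgroup.mem_inf, Subgroup.mem_inf]
      constructor
      · exact fun ⟨h3, h4⟩ => ⟨C.mul_mem (C.mul_mem hcC h3) (C.inv_mem hcC),
          (inferInstance : F.Normal).conj_mem y h4 c⟩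
      · rintro ⟨h3, h4⟩
        refine ⟨?_, by simpa [mul_assoc] using (inferInstance : F.Normal).conj_mem _ h4 c⁻¹⟩
        simpa [mul_assoc] using C.mul_mem (C.mul_mem (C.inv_mem hcC) h3) hcC
    have hA'X := hDnorm A' hA'F
    have hBX := hDnorm B rfl
    -- Sylow subgroups of `X` at the primes outside the Fitting subgroup are cyclic
    have hno : ∀ r : ℕ, r.Prime → ¬ r ∣ Nat.card F → ∀ E : Subgroup G, Nat.card E = r ^ 2 →
        (∀ e ∈ E, e ^ r = 1) → False := by
      intro r hr hrF E hE hEexp
      haveI := Fact.mk hr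
      by_cases hall : ∀ p : ℕ, p.Prime → ∃ e ∈ E, e ≠ 1 ∧ ∀ o ∈ pCore p G, o * e = e * o
      · obtain ⟨e₀, he₀, he₀1, -⟩ := hall 2 Nat.prime_two
        refine hrF ?_
        have hmem : e₀ ∈ F := mem_fitting_of_centralizes fun p hp => by
          obtain ⟨e, he, he1, hcen⟩ := hall p hp
          have := mem_of_orderOf_eq hB (M := (MulAut.conjNormal (H := pCore p G) : G →* _).ker) (m := e)
            (conjNormal_eq_one_iff.mpr hcen)
            ((orderOf_eq_prime (hEexp e₀ he₀) he₀1).trans (orderOf_eq_prime (hEexp e he) he1).symm)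
          exact conjNormal_eq_one_iff.mp this
        rw [← orderOf_eq_prime (hEexp e₀ he₀) he₀1, ← Subgroup.orderOf_mk e₀ hmem]
        exact orderOf_dvd_natCard _
      · push Not at hall
        obtain ⟨p, hp, hfaith⟩ := hall
        haveI := Fact.mk hp
        have hne : pCore p G ≠ ⊥ := fun hb => by
          haveI : Nontrivial E := Finite.one_lt_card_iff_nontrivial.mp (hE ▸ Nat.one_lt_pow two_ne_zero hr.one_lt)
          obtain ⟨e, he⟩ := exists_ne (1 : E)
          obtain ⟨o, ho, hoe⟩ := hfaith e e.2 fun h => he (Subtype.ext h)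
          rw [hb, Subgroup.mem_bot] at ho
          exact hoe (by rw [ho, one_mul, mul_one])
        obtain ⟨⟨hPc, hPexp⟩, hfull, -, -⟩ := hP p hp hne
        set ψ := (MulAut.conjNormal (H := pCore p G) : G →* _)
        refine no_rank_two (Q := G ⧸ ψ.ker) (r := r) (solvable_quotient hB hs ψ.ker) inferInstance ?_
          (E.map (QuotientGroup.mk' ψ.ker)) ?_ ?_
        · letI : CommGroup (pCore p G) :=
            { (inferInstance : Group (pCore p G)) with mul_comm := fun a b => hPc.is_comm.comm a b }
          intro N s hNn hsp hNc hNs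
          refine card_dvd_prime_of_transitive (P := pCore p G) (QuotientGroup.kerLift ψ)
            (QuotientGroup.kerLift_injective ψ) hp (fun v => Subtype.ext (by simpa using hPexp v v.2)) ?_ ?_ ?_
            N hsp (fun a ha b hb => congrArg Subtype.val (hNc.is_comm.comm ⟨a, ha⟩ ⟨b, hb⟩)) hNs
          · rw [← Subgroup.index_eq_card]
            intro hd
            have hle : pCore p G ≤ ψ.ker := fun y hy => conjNormal_eq_one_iff.mpr fun o ho =>
              congrArg Subtype.val (hPc.is_comm.comm ⟨o, ho⟩ ⟨y, hy⟩)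
            have h3 : p ∣ (pCore p G).index := hd.trans (Subgroup.index_dvd_of_le hle)
            have h4 := congrArg (fun m => Nat.factorization m p) (pCore p G).card_mul_index
            rw [Nat.factorization_mul Nat.card_pos.ne' Subgroup.index_ne_zero_of_finite, Finsupp.add_apply,
              hfull] at h4
            have := hp.factorization_pos_of_dvd Subgroup.index_ne_zero_of_finite h3
            omega
          · intro v w hv hw
            have hord : ∀ z : pCore p G, z ≠ 1 → orderOf (z : G) = p := fun z hz =>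
              orderOf_eq_prime (hPexp z z.2) fun h => hz (Subtype.ext h)
            obtain ⟨c, hcz⟩ := hB (Subgroup.zpowers (v : G)) (Subgroup.zpowers (w : G)) inferInstance
              inferInstance (by rw [Nat.card_zpowers, Nat.card_zpowers, hord v hv, hord w hw])
            have hwm : (w : G) ∈ Subgroup.zpowers (w : G) := Subgroup.mem_zpowers _
            rw [hcz] at hwm
            obtain ⟨y, ⟨i, rfl⟩, hy⟩ := Subgroup.mem_map.mp hwm
            refine ⟨QuotientGroup.mk c, i, Subtype.ext ?_⟩
            rw [← hy]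
            show (((ψ c) v) ^ i : pCore p G).1 = _
            rw [Subgroup.coe_zpow, MulAut.conjNormal_apply, conj_zpow]
            rfl
          · haveI := (Subgroup.nontrivial_iff_ne_bot (pCore p G)).mpr hne
            exact exists_ne 1
        · have hinj : Function.Injective ((QuotientGroup.mk' ψ.ker).comp E.subtype) := by
            rw [injective_iff_map_eq_one]
            intro e he
            by_contra he1
            obtain ⟨o, ho, hoe⟩ := hfaith e e.2 fun h => he1 (Subtype.ext h)
            exact hoe (conjNormal_eq_one_iff.mp ((QuotientGroup.eq_one_iff _).mp he) o ho)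
          have hr1 := Nat.card_congr (MonoidHom.ofInjective hinj).toEquiv
          rw [MonoidHom.range_comp, Subgroup.range_subtype] at hr1
          rw [← hr1, hE]
        · rintro _ ⟨e, he, rfl⟩
          rw [← map_pow, hEexp e he, map_one]
    have hcycX : ∀ r : ℕ, r.Prime → ¬ r ∣ Nat.card F → ∀ S : Sylow r X, IsCyclic (S : Subgroup X) := by
      intro r hr hrF S
      haveI := Fact.mk hr
      obtain ⟨R, hR⟩ := (S.2.map X.subtype).exists_le_sylow
      have hu := orderOf_prime_unique_of_no_rank_two hB (hno r hr hrF) R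
      have hiso : IsCyclic ((S : Subgroup X).map X.subtype) → IsCyclic (S : Subgroup X) :=
        (Subgroup.equivMapOfInjective (S : Subgroup X) X.subtype X.subtype_injective).isCyclic.mpr
      refine hiso ?_
      by_cases hc' : r ≠ 2 ∨ IsMulCommutative (R : Subgroup G)
      · haveI := isCyclic_of_unique R.2 hu hc'
        exact isCyclic_of_injective (Subgroup.inclusion hR) (Subgroup.inclusion_injective hR)
      push Not at hc'
      obtain ⟨rfl, hna⟩ := hc'
      have hRnc : ¬ IsCyclic (R : Subgroup G) := fun h => hna (by haveI := h; exact IsCyclic.isMulCommutative)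
      obtain ⟨h8, -⟩ := quaternion_facts hB hs R hu hRnc
      obtain ⟨i, hi⟩ := IsPGroup.iff_card.mp (S.2.map X.subtype)
      by_cases hS8 : i ≤ 2
      · refine isCyclic_of_unique (S.2.map X.subtype) (fun u v hu' hv' => ?_) (Or.inr ?_)
        · obtain ⟨j, hj⟩ := hu ⟨u, hR u.2⟩ ⟨v, hR v.2⟩ (by rw [Subgroup.orderOf_mk, Subgroup.orderOf_coe, hu'])
            (by rw [Subgroup.orderOf_mk, Subgroup.orderOf_coe, hv'])
          exact ⟨j, Subtype.ext (by simpa using congrArg Subtype.val hj)⟩
        · rcases (show i = 0 ∨ i = 1 ∨ i = 2 by omega) with rfl | rfl | rfl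
          · haveI := (Nat.card_eq_one_iff_unique.mp (hi.trans (pow_zero 2))).1
            exact ⟨⟨fun a b => Subsingleton.elim _ _⟩⟩
          · haveI := isCyclic_of_prime_card (hi.trans (pow_one 2))
            exact IsCyclic.isMulCommutative
          · exact IsPGroup.isMulCommutative_of_card_eq_prime_sq hi
      exfalso
      have hRX : (R : Subgroup G) ≤ X := by
        have heq : (S : Subgroup X).map X.subtype = (R : Subgroup G) := Subgroup.eq_of_le_of_card_ge hR (by
          rw [hi, h8]; exact le_trans (by norm_num) (Nat.pow_le_pow_right two_pos (show 3 ≤ i by omega)))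
        rw [← heq]; exact Subgroup.map_subtype_le _
      -- the involution acts on some core
      haveI : Nontrivial (R : Subgroup G) := Finite.one_lt_card_iff_nontrivial.mp (by rw [h8]; norm_num)
      obtain ⟨z, hz⟩ := exists_prime_orderOf_dvd_card' (G := (R : Subgroup G)) 2 (by rw [h8]; norm_num)
      obtain ⟨p, hp, o, ho, hoz⟩ : ∃ p : ℕ, p.Prime ∧ ∃ o ∈ pCore p G, o * (z : G) ≠ z * o := by
        by_contra hno2
        push Not at hno2
        have hzF : (z : G) ∈ F := mem_fitting_of_centralizes fun p hp o ho => hno2 p hp o ho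
        refine hrF ?_
        rw [← hz, ← Subgroup.orderOf_coe, ← Subgroup.orderOf_mk (z : G) hzF]
        exact orderOf_dvd_natCard _
      haveI := Fact.mk hp
      have hne : pCore p G ≠ ⊥ := fun hb => by
        rw [hb, Subgroup.mem_bot] at ho
        exact hoz (by rw [ho, one_mul, mul_one])
      obtain ⟨⟨hPc, hPexp⟩, hfull, hv1, hv2⟩ := hP p hp hne
      letI : CommGroup (pCore p G) :=
        { (inferInstance : Group (pCore p G)) with mul_comm := fun a b => hPc.is_comm.comm a b }
      set ψ := (MulAut.conjNormal (H := pCore p G) : G →* _)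
      have hinj : ∀ y : (R : Subgroup G), ψ y = 1 → y = 1 := by
        intro y hy
        by_contra hy1
        obtain ⟨j, hj⟩ := exists_orderOf_eq R.2 (x := y) (k := 0) (by simpa using hy1)
        rw [zero_add, pow_one] at hj
        obtain ⟨l, hl⟩ := hu z (y ^ j) hz hj
        refine hoz (conjNormal_eq_one_iff.mp ?_ o ho)
        show ψ (z : G) = 1
        rw [← hl]
        show ψ (((y ^ j) ^ l : (R : Subgroup G)) : G) = 1
        rw [Subgroup.coe_zpow, Subgroup.coe_pow, map_zpow, map_pow, hy, one_pow, one_zpow]
      -- the image of `R` is normal modulo the kernel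
      let f := (QuotientGroup.mk' ψ.ker).comp (R : Subgroup G).subtype
      have hf : Function.Injective f := (injective_iff_map_eq_one f).mpr fun y hy =>
        hinj y ((QuotientGroup.eq_one_iff _).mp hy)
      let R' : Sylow 2 (G ⧸ ψ.ker) := R.mapSurjective (QuotientGroup.mk'_surjective ψ.ker)
      have hR' : (R' : Subgroup (G ⧸ ψ.ker)) = f.range := by
        rw [MonoidHom.range_comp, Subgroup.range_subtype]; rfl
      have hR'n : (R' : Subgroup (G ⧸ ψ.ker)).Normal := by
        refine quaternion_normal (solvable_quotient hB hs ψ.ker) inferInstance ?_ R' ?_ ?_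
        · intro N s hNn hsp hNc hNs
          refine card_dvd_prime_of_transitive (P := pCore p G) (QuotientGroup.kerLift ψ)
            (QuotientGroup.kerLift_injective ψ) hp (fun v => Subtype.ext (by simpa using hPexp v v.2)) ?_ ?_ ?_
            N hsp (fun a ha b hb => congrArg Subtype.val (hNc.is_comm.comm ⟨a, ha⟩ ⟨b, hb⟩)) hNs
          · rw [← Subgroup.index_eq_card]
            intro hd
            have hle : pCore p G ≤ ψ.ker := fun y hy => conjNormal_eq_one_iff.mpr fun o ho =>
              congrArg Subtype.val (hPc.is_comm.comm ⟨o, ho⟩ ⟨y, hy⟩)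
            have h3 : p ∣ (pCore p G).index := hd.trans (Subgroup.index_dvd_of_le hle)
            have h4 := congrArg (fun m => Nat.factorization m p) (pCore p G).card_mul_index
            rw [Nat.factorization_mul Nat.card_pos.ne' Subgroup.index_ne_zero_of_finite, Finsupp.add_apply,
              hfull] at h4
            have := hp.factorization_pos_of_dvd Subgroup.index_ne_zero_of_finite h3
            omega
          · intro v w hv hw
            have hord : ∀ z : pCore p G, z ≠ 1 → orderOf (z : G) = p := fun z hz =>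
              orderOf_eq_prime (hPexp z z.2) fun h => hz (Subtype.ext h)
            obtain ⟨c, hcz⟩ := hB (Subgroup.zpowers (v : G)) (Subgroup.zpowers (w : G)) inferInstance
              inferInstance (by rw [Nat.card_zpowers, Nat.card_zpowers, hord v hv, hord w hw])
            have hwm : (w : G) ∈ Subgroup.zpowers (w : G) := Subgroup.mem_zpowers _
            rw [hcz] at hwm
            obtain ⟨y, ⟨i, rfl⟩, hy⟩ := Subgroup.mem_map.mp hwm
            refine ⟨QuotientGroup.mk c, i, Subtype.ext ?_⟩
            rw [← hy]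
            show (((ψ c) v) ^ i : pCore p G).1 = _
            rw [Subgroup.coe_zpow, MulAut.conjNormal_apply, conj_zpow]
            rfl
          · haveI := (Subgroup.nontrivial_iff_ne_bot (pCore p G)).mpr hne
            exact exists_ne 1
        · intro a b ha hb
          obtain ⟨a', ha'⟩ : (a : G ⧸ ψ.ker) ∈ f.range := hR' ▸ a.2
          obtain ⟨b', hb'⟩ : (b : G ⧸ ψ.ker) ∈ f.range := hR' ▸ b.2
          obtain ⟨j, hj⟩ := hu a' b' (by rw [← orderOf_injective f hf, ha', Subgroup.orderOf_coe, ha])
            (by rw [← orderOf_injective f hf, hb', Subgroup.orderOf_coe, hb])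
          refine ⟨j, Subtype.ext ?_⟩
          show ((b ^ j : (R' : Subgroup (G ⧸ ψ.ker))) : G ⧸ ψ.ker) = a
          rw [Subgroup.coe_zpow, ← hb', ← map_zpow]
          show f (b' ^ j) = _
          rw [show b' ^ j = a' from hj, ha']
        · intro hcR
          refine hRnc ((MonoidHom.ofInjective hf).isCyclic.mpr ?_)
          rw [← hR']; exact hcR
      -- every subgroup of the order of `D ∩ P` is invariant
      set k := (Nat.card A).factorization p with hk
      have hDP : ∀ C : Subgroup G, Nat.card (C ⊓ pCore p G : Subgroup G) = p ^ (Nat.card C).factorization p := by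
        intro C
        obtain ⟨j, hj⟩ := IsPGroup.iff_card.mp ((PSolvable.pCore_isPGroup (p := p) (G := G)).to_le
          (inf_le_right : C ⊓ pCore p G ≤ _))
        have h5 := factorization_inf hp (pCore p G) hfull C
        rw [hj, hp.factorization_pow, Finsupp.single_eq_same] at h5
        rw [hj, h5]
      have hDk : Nat.card (B ⊓ pCore p G : Subgroup G) = p ^ k := by rw [hDP B, hk, hc]
      have hRD : ∀ y ∈ (R : Subgroup G), ∀ d ∈ B ⊓ pCore p G, y * d * y⁻¹ ∈ B ⊓ pCore p G := by
        intro y hy d hd
        have h6 : y * d * y⁻¹ ∈ D := ((Subgroup.mem_normalizer_iff.mp (hRX hy)) d).mp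
          ⟨hd.1, Fitting.pCore_le_fittingSubgroup p hd.2⟩
        exact ⟨h6.1, (inferInstance : (pCore p G).Normal).conj_mem d hd.2 y⟩
      have hinv : ∀ y ∈ (R : Subgroup G), ∀ E : Subgroup (pCore p G), Nat.card E = p ^ k → ∀ d ∈ E,
          ψ y d ∈ E := by
        intro y hy E hE d hd
        obtain ⟨c, hcE⟩ := hB (B ⊓ pCore p G) (E.map (pCore p G).subtype)
          (habF _ (inf_le_right.trans (Fitting.pCore_le_fittingSubgroup p)))
          (habF _ ((Subgroup.map_subtype_le E).trans (Fitting.pCore_le_fittingSubgroup p)))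
          (by rw [Subgroup.card_subtype, hE, hDk])
        have h7 : (c⁻¹ * y * c : G) ∈ (R' : Subgroup (G ⧸ ψ.ker)).comap (QuotientGroup.mk' ψ.ker) := by
          rw [Subgroup.mem_comap, map_mul, map_mul, map_inv]
          have := hR'n.conj_mem _ (show QuotientGroup.mk' ψ.ker y ∈ (R' : Subgroup _) from ⟨y, hy, rfl⟩)
            (QuotientGroup.mk' ψ.ker c)⁻¹
          rwa [inv_inv] at this
        obtain ⟨r₀, hr₀, hr₀eq⟩ := h7
        have hk₀ : r₀⁻¹ * (c⁻¹ * y * c) ∈ ψ.ker := QuotientGroup.eq.mp hr₀eq
        have hdm : (d : G) ∈ E.map (pCore p G).subtype := Subgroup.mem_map_of_mem _ hd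
        rw [hcE] at hdm
        obtain ⟨e, he, hed⟩ := Subgroup.mem_map.mp hdm
        have h8' : y * (d : G) * y⁻¹ = c * (r₀ * e * r₀⁻¹) * c⁻¹ := by
          have h9 := conjNormal_eq_one_iff.mp hk₀ e he.2
          rw [← hed]
          show y * (c * e * c⁻¹) * y⁻¹ = _
          calc y * (c * e * c⁻¹) * y⁻¹
              = c * r₀ * ((r₀⁻¹ * (c⁻¹ * y * c)) * e * (r₀⁻¹ * (c⁻¹ * y * c))⁻¹) * r₀⁻¹ * c⁻¹ := by group
            _ = c * r₀ * e * r₀⁻¹ * c⁻¹ := by rw [← h9, mul_inv_cancel_right]
            _ = _ := by group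
        have h10 : y * (d : G) * y⁻¹ ∈ E.map (pCore p G).subtype := by
          rw [hcE, h8']
          exact ⟨r₀ * e * r₀⁻¹, hRD r₀ hr₀ e he, rfl⟩
        obtain ⟨d', hd', hdd'⟩ := h10
        have h11 : d' = ψ y d := Subtype.ext (by rw [MulAut.conjNormal_apply]; exact hdd')
        exact h11 ▸ hd'
      refine hna ⟨⟨fun a b => ?_⟩⟩
      have hcomm : ψ a * ψ b = ψ b * ψ a := commute_of_invariant (P := pCore p G)
        (fun v => Subtype.ext (by simpa using hPexp v v.2)) hv1
        (by
          have h12 := hDP ⊤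
          rw [top_inf_eq, Subgroup.card_top] at h12
          rw [h12]
          exact Nat.pow_lt_pow_right hp.one_lt hv2) _ _
        (fun E hE d hd => hinv a a.2 E hE d hd) (fun E hE d hd => hinv b b.2 E hE d hd)
      have h13 := hinj (a * b * (b * a)⁻¹) (by
        rw [Subgroup.coe_mul, Subgroup.coe_mul, Subgroup.coe_inv, Subgroup.coe_mul, map_mul, map_mul, map_inv,
          map_mul, hcomm, mul_inv_cancel])
      exact mul_inv_eq_one.mp h13
    -- conjugate modulo `D`
    set D' := D.subgroupOf X with hD'
    haveI : D'.Normal := Subgroup.normal_in_normalizer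
    have hD'A : D' ≤ A'.subgroupOf X := fun x hx => (show (x : G) ∈ A' ⊓ F from hA'F.symm ▸ hx).1
    have hD'B : D' ≤ B.subgroupOf X := fun x hx => (show (x : G) ∈ B ⊓ F from hx).1
    have hcq : ∀ C : Subgroup G, D' ≤ C.subgroupOf X → C ≤ X →
        Nat.card ((C.subgroupOf X).map (QuotientGroup.mk' D')) * Nat.card D' = Nat.card C := by
      intro C hC hCX
      have := SZ.card_map_of_ker_le (QuotientGroup.mk' D') (C.subgroupOf X) (by rwa [QuotientGroup.ker_mk'])
      rwa [QuotientGroup.ker_mk', SZ.card_subgroupOf hCX] at this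
    have hq := hcq A' hD'A hA'X
    have hq' := hcq B hD'B hBX
    obtain ⟨x, hx⟩ := conj_of_quotient_le D' (A'.subgroupOf X) (B.subgroupOf X) hD'A hD'B
      (conj_of_cyclic (Nat.card (X ⧸ D')) (X ⧸ D') rfl inferInstance _ _
        (Nat.eq_of_mul_eq_mul_right Nat.card_pos ((hq.trans hA'c).trans hq'.symm)) fun r hr hrd P => by
          haveI := Fact.mk hr
          obtain ⟨S, rfl⟩ := Sylow.mapSurjective_surjective (QuotientGroup.mk'_surjective D') r P
          have hrF : ¬ r ∣ Nat.card F := by
            intro hrF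
            have h14 := congrArg (fun m => Nat.factorization m r) hq
            rw [Nat.factorization_mul Nat.card_pos.ne' Nat.card_pos.ne', Finsupp.add_apply,
              SZ.card_subgroupOf (show D ≤ X from Subgroup.le_normalizer), hD,
              hinfF B r hr, if_pos hrF, hA'c] at h14
            have := hr.factorization_pos_of_dvd Nat.card_pos.ne' hrd
            omega
          haveI := hcycX r hr hrF S
          exact isCyclic_of_surjective ((QuotientGroup.mk' D').subgroupMap (S : Subgroup X))
            (MonoidHom.subgroupMap_surjective _ _))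
    refine ⟨x, ?_⟩
    have hx' := congrArg (Subgroup.map X.subtype) hx
    rw [Subgroup.map_subgroupOf_eq_of_le hBX, Subgroup.map_map] at hx'
    rw [hx']
    conv_rhs => rw [← Subgroup.map_subgroupOf_eq_of_le hA'X, Subgroup.map_map]
    rfl

end Cfsg.Agent.Lib.AbelianConj
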