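import Cfsg.Agent.Lib.AbelianConj.Lift
import Cfsg.Agent.Lib.MinimalNormal
import Cfsg.Agent.Lib.Core.Fitting

/-!
A soluble group with conjugate abelian subgroups of equal order, all of whose normal elementary
abelian subgroups are cyclic, has no elementary abelian subgroup of order `r ^ 2`, and a
noncyclic Sylow 2-subgroup with one involution is normal (helper67).
-/

set_option autoImplicit false

namespace Cfsg.Agent.Lib.AbelianConj

open Cfsg

variable {Q : Type*} [Group Q] [Finite Q]

theorem mem_pCore_of_mem_fitting {r : ℕ} [Fact r.Prime] {x : Q} (hx : x ∈ fittingSubgroup Q) {i : ℕ}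
    (ho : orderOf x = r ^ i) : x ∈ pCore r Q := by
  haveI := Fitting.isNilpotent_fittingSubgroup (G := Q)
  haveI := Fitting.fittingSubgroup_normal (G := Q)
  have hxp : IsPGroup r (Subgroup.zpowers (⟨x, hx⟩ : fittingSubgroup Q)) := IsPGroup.of_card (n := i) (by
    rw [Nat.card_zpowers, Subgroup.orderOf_mk, ho])
  obtain ⟨S, hS⟩ := hxp.exists_le_sylow
  haveI : (S : Subgroup (fittingSubgroup Q)).Characteristic := S.characteristic_of_normal
    (S.normal_of_normalizerCondition Group.normalizerCondition_of_isNilpotent)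
  exact PSolvable.le_pCore (S.2.map (fittingSubgroup Q).subtype)
    ⟨_, hS (Subgroup.mem_zpowers _), rfl⟩

theorem mem_fitting_of_centralizes [Group.IsSolvable Q] {x : Q}
    (h : ∀ s : ℕ, s.Prime → ∀ o ∈ pCore s Q, o * x = x * o) : x ∈ fittingSubgroup Q := by
  refine Fitting.centralizer_fittingSubgroup_le (Subgroup.mem_centralizer_iff.mpr ?_)
  intro o ho
  have hle : fittingSubgroup Q ≤ Subgroup.centralizer ({x} : Set Q) := by
    rw [Fitting.fittingSubgroup_eq_iSup_pCore]
    exact iSup_le fun s o ho => Subgroup.mem_centralizer_singleton_iff.mpr (h s s.2 o ho)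
  exact Subgroup.mem_centralizer_singleton_iff.mp (hle ho)

/-- Shape of the nontrivial cores. -/
theorem pCore_shape (hB : AbConj Q) (hs : Group.IsSolvable Q)
    (hN : ∀ (N : Subgroup Q) (s : ℕ), N.Normal → s.Prime → IsMulCommutative N →
      (∀ a ∈ N, a ^ s = 1) → Nat.card N ∣ s)
    (s : ℕ) [hsp : Fact s.Prime] (hne : pCore s Q ≠ ⊥) :
    (∀ (S : Sylow s Q) (u v : (S : Subgroup Q)), orderOf u = s → orderOf v = s → u ∈ Subgroup.zpowers v) ∧
      (IsCyclic (pCore s Q) ∨ (s = 2 ∧ Nat.card (pCore s Q) = 8)) := by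
  haveI := hs
  obtain ⟨N, hNn, hNb, hNle, hNmin⟩ := MinimalNormal.exists_minimal_normal_le
    (inferInstance : (pCore s Q).Normal) hne
  haveI := hNn
  haveI : Group.IsSolvable N := inferInstance
  obtain ⟨hNc, q, hq, hNq⟩ := MinimalNormal.elementaryAbelian N hNb hNmin
  haveI := Fact.mk hq
  have hNd := hN N q hNn hq hNc hNq
  obtain ⟨k, hk⟩ := IsPGroup.iff_card.mp ((PSolvable.pCore_isPGroup (p := s) (G := Q)).to_le hNle)
  have hk0 : k ≠ 0 := fun h => hNb (Subgroup.card_eq_one.mp (by rw [hk, h, pow_zero]))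
  obtain rfl : s = q := (Nat.prime_dvd_prime_iff_eq hsp.out hq).mp ((dvd_pow_self s hk0).trans (hk ▸ hNd))
  obtain ⟨x, hx⟩ := exists_prime_orderOf_dvd_card' (G := N) s (hk ▸ dvd_pow_self s hk0)
  have hu : ∀ (S : Sylow s Q) (u v : (S : Subgroup Q)), orderOf u = s → orderOf v = s →
      u ∈ Subgroup.zpowers v := by
    intro S u v hu hv
    have hNcard : Nat.card N = s := by
      rcases (Nat.dvd_prime hq).mp hNd with h | h
      · exact absurd (Subgroup.card_eq_one.mp h) hNb
      · exact h
    have hmem : ∀ w : (S : Subgroup Q), orderOf w = s → (w : Q) ∈ N := fun w hw =>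
      mem_of_orderOf_eq hB x.2 (by rw [Subgroup.orderOf_coe, hw, Subgroup.orderOf_coe, hx])
    have h1 : Subgroup.zpowers (v : Q) = N := Subgroup.eq_of_le_of_card_ge
      (Subgroup.zpowers_le.mpr (hmem v hv)) (by rw [hNcard, Nat.card_zpowers, Subgroup.orderOf_coe, hv])
    have h2 : (u : Q) ∈ Subgroup.zpowers (v : Q) := h1 ▸ hmem u hu
    obtain ⟨i, hi⟩ := h2
    exact ⟨i, Subtype.ext (by simpa using hi)⟩
  refine ⟨hu, ?_⟩
  obtain ⟨S⟩ : Nonempty (Sylow s Q) := inferInstance
  have hOS : pCore s Q ≤ (S : Subgroup Q) := PSolvable.pCore_le_sylow S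
  have huO : ∀ u v : pCore s Q, orderOf u = s → orderOf v = s → u ∈ Subgroup.zpowers v := by
    intro u v h1 h2
    obtain ⟨i, hi⟩ := hu S ⟨u, hOS u.2⟩ ⟨v, hOS v.2⟩ (by rw [Subgroup.orderOf_mk, Subgroup.orderOf_coe, h1])
      (by rw [Subgroup.orderOf_mk, Subgroup.orderOf_coe, h2])
    exact ⟨i, Subtype.ext (by simpa using congrArg Subtype.val hi)⟩
  by_cases hc : s ≠ 2 ∨ IsMulCommutative (pCore s Q)
  · exact Or.inl (isCyclic_of_unique PSolvable.pCore_isPGroup huO hc)
  push Not at hc
  obtain ⟨rfl, hna⟩ := hc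
  have hSnc : ¬ IsCyclic (S : Subgroup Q) := fun h => hna (by
    haveI := isCyclic_of_injective (Subgroup.inclusion hOS) (Subgroup.inclusion_injective hOS)
    exact IsCyclic.isMulCommutative)
  obtain ⟨h8, -⟩ := quaternion_facts hB hs S (hu S) hSnc
  refine Or.inr ⟨rfl, ?_⟩
  obtain ⟨j, hj⟩ := IsPGroup.iff_card.mp (PSolvable.pCore_isPGroup (p := 2) (G := Q))
  have h1 : 2 ^ j ∣ 2 ^ 3 := hj ▸ (Subgroup.card_dvd_of_le hOS).trans (by rw [h8]; norm_num)
  have hj3 := (Nat.pow_dvd_pow_iff_le_right (by norm_num : 1 < 2)).mp h1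
  have : 3 ≤ j := by
    by_contra hlt
    apply hna
    rcases (show j = 0 ∨ j = 1 ∨ j = 2 by omega) with rfl | rfl | rfl
    · haveI := (Nat.card_eq_one_iff_unique.mp (hj.trans (pow_zero 2))).1
      exact ⟨⟨fun a b => Subsingleton.elim _ _⟩⟩
    · haveI := isCyclic_of_prime_card (hj.trans (pow_one 2))
      exact IsCyclic.isMulCommutative
    · exact IsPGroup.isMulCommutative_of_card_eq_prime_sq hj
  rw [hj, show j = 3 by omega]; norm_num

theorem isCyclic_mulAut {O : Type*} [Group O] [Finite O] [IsCyclic O] {s : ℕ} [hs : Fact s.Prime]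
    (hs2 : s ≠ 2) (hO : IsPGroup s O) : IsCyclic (MulAut O) := by
  obtain ⟨k, hk⟩ := IsPGroup.iff_card.mp hO
  haveI : IsCyclic (ZMod (Nat.card O))ˣ := by
    rw [hk]; exact ZMod.isCyclic_units_of_prime_pow s hs.out hs2 k
  exact (IsCyclic.mulAutMulEquiv O).isCyclic.mpr inferInstance

theorem conjNormal_eq_one_iff {O : Subgroup Q} [O.Normal] {x : Q} :
    MulAut.conjNormal (H := O) x = 1 ↔ ∀ o ∈ O, o * x = x * o := by
  constructor
  · intro h o ho
    have h1 : (MulAut.conjNormal (H := O) x ⟨o, ho⟩ : Q) = o := by rw [h]; rfl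
    rw [MulAut.conjNormal_apply] at h1
    exact (mul_inv_eq_iff_eq_mul.mp h1).symm
  · intro h
    refine MulEquiv.ext fun o => Subtype.ext ?_
    rw [MulAut.conjNormal_apply]
    show x * o * x⁻¹ = o
    rw [← h o o.2, mul_inv_cancel_right]

theorem no_rank_two (hB : AbConj Q) (hs : Group.IsSolvable Q)
    (hN : ∀ (N : Subgroup Q) (s : ℕ), N.Normal → s.Prime → IsMulCommutative N →
      (∀ a ∈ N, a ^ s = 1) → Nat.card N ∣ s)
    {r : ℕ} [hr : Fact r.Prime] (E : Subgroup Q) (hE : Nat.card E = r ^ 2) (hEexp : ∀ e ∈ E, e ^ r = 1) :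
    False := by
  haveI := hs
  have hordE : ∀ e ∈ E, e ≠ 1 → orderOf e = r := fun e he he1 => orderOf_eq_prime (hEexp e he) he1
  have hOr : pCore r Q = ⊥ := by
    by_contra hne
    obtain ⟨hu, -⟩ := pCore_shape hB hs hN r hne
    obtain ⟨S, hS⟩ := (IsPGroup.of_card hE).exists_le_sylow
    haveI : Nontrivial E := Finite.one_lt_card_iff_nontrivial.mp (hE ▸ Nat.one_lt_pow two_ne_zero hr.out.one_lt)
    obtain ⟨e, he⟩ := exists_ne (1 : E)
    have he' : (e : Q) ≠ 1 := fun h => he (Subtype.ext h)
    have hle : E ≤ Subgroup.zpowers (e : Q) := by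
      intro f hf
      by_cases hf1 : f = 1
      · subst hf1; exact one_mem _
      obtain ⟨i, hi⟩ := hu S ⟨f, hS hf⟩ ⟨e, hS e.2⟩ (by rw [Subgroup.orderOf_mk, hordE f hf hf1])
        (by rw [Subgroup.orderOf_mk, hordE e e.2 he'])
      exact ⟨i, by simpa using congrArg Subtype.val hi⟩
    have h2 : r ^ 2 ≤ r := Nat.le_of_dvd (hr.out.pos) (by
      have := Subgroup.card_dvd_of_le hle
      rwa [hE, Nat.card_zpowers, hordE e e.2 he'] at this)
    nlinarith [hr.out.two_le]
  have hcent : ∀ s : ℕ, s.Prime → ∀ x ∈ E, ∀ o ∈ pCore s Q, o * x = x * o := by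
    intro s hsp
    haveI := Fact.mk hsp
    by_cases hne : pCore s Q = ⊥
    · intro x _ o ho
      rw [hne, Subgroup.mem_bot] at ho
      rw [ho, one_mul, mul_one]
    set ψ := (MulAut.conjNormal (H := pCore s Q)).comp E.subtype with hψ
    by_cases hinj : Function.Injective ψ
    swap
    · obtain ⟨e, he, he1⟩ : ∃ e : E, ψ e = 1 ∧ e ≠ 1 := by
        by_contra hno
        push Not at hno
        exact hinj ((injective_iff_map_eq_one ψ).mpr hno)
      have hC : ∀ x ∈ E, x ∈ (MulAut.conjNormal (H := pCore s Q) : Q →* _).ker := by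
        intro x hx
        by_cases hx1 : x = 1
        · subst hx1; exact one_mem _
        · exact mem_of_orderOf_eq hB (m := (e : Q)) he
            ((hordE x hx hx1).trans (hordE e e.2 fun h => he1 (Subtype.ext h)).symm)
      exact fun x hx o ho => conjNormal_eq_one_iff.mp (hC x hx) o ho
    exfalso
    have hsr : s ≠ r := fun h => hne (h ▸ hOr)
    obtain ⟨-, hshape⟩ := pCore_shape hB hs hN s hne
    rcases hshape with hc | ⟨rfl, h8⟩
    · haveI := hc
      by_cases hs2 : s = 2
      · subst hs2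
        obtain ⟨k, hk⟩ := IsPGroup.iff_card.mp (PSolvable.pCore_isPGroup (p := 2) (G := Q))
        have h1 := Subgroup.card_dvd_of_injective ψ hinj
        rw [hE, IsCyclic.card_mulAut, hk] at h1
        rcases k with _ | k
        · exact hne (Subgroup.card_eq_one.mp (hk.trans (pow_zero 2)))
        · rw [Nat.totient_prime_pow_succ Nat.prime_two, show 2 - 1 = 1 from rfl, mul_one] at h1
          exact hsr ((Nat.prime_dvd_prime_iff_eq hr.out Nat.prime_two).mp
            (hr.out.dvd_of_dvd_pow ((dvd_pow_self r two_ne_zero).trans h1))).symm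
      · haveI := isCyclic_mulAut hs2 (PSolvable.pCore_isPGroup (p := s) (G := Q))
        haveI := isCyclic_of_injective ψ hinj
        obtain ⟨g, hg⟩ := IsCyclic.exists_generator (α := E)
        have h1 : orderOf g ∣ r := orderOf_dvd_of_pow_eq_one (Subtype.ext (hEexp g g.2))
        rw [orderOf_eq_card_of_forall_mem_zpowers hg, hE] at h1
        have := Nat.le_of_dvd hr.out.pos h1
        nlinarith [hr.out.two_le]
    · -- a quaternion core
      have hr3 : 3 ≤ r := by have := hr.out.two_le; omega
      obtain ⟨a, ha⟩ : ∃ a : pCore 2 Q, a * a ≠ 1 := by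
        by_contra hall
        push Not at hall
        obtain ⟨hu, -⟩ := pCore_shape hB hs hN 2 hne
        obtain ⟨S⟩ : Nonempty (Sylow 2 Q) := inferInstance
        have hOS : pCore 2 Q ≤ (S : Subgroup Q) := PSolvable.pCore_le_sylow S
        haveI : Nontrivial (pCore 2 Q) := Finite.one_lt_card_iff_nontrivial.mp (by rw [h8]; norm_num)
        obtain ⟨c, hc⟩ := exists_ne (1 : pCore 2 Q)
        have hco : ∀ d : pCore 2 Q, d ≠ 1 → orderOf (d : Q) = 2 := fun d hd => by
          rw [Subgroup.orderOf_coe]; exact orderOf_eq_prime (by rw [pow_two]; exact hall d) hd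
        have hle : pCore 2 Q ≤ Subgroup.zpowers (c : Q) := by
          intro d hd
          by_cases hd1 : d = 1
          · subst hd1; exact one_mem _
          obtain ⟨i, hi⟩ := hu S ⟨d, hOS hd⟩ ⟨c, hOS c.2⟩
            (by rw [Subgroup.orderOf_mk]; exact hco ⟨d, hd⟩ fun h => hd1 (congrArg Subtype.val h))
            (by rw [Subgroup.orderOf_mk]; exact hco c hc)
          exact ⟨i, by simpa using congrArg Subtype.val hi⟩
        have h2 := Subgroup.card_dvd_of_le hle
        rw [h8, Nat.card_zpowers, hco c hc] at h2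
        norm_num at h2
      -- some nontrivial element of `E` fixes `a`
      classical
      let f : E → {b : pCore 2 Q // b ≠ 1} := fun e => ⟨ψ e a, fun h => ha (by
        rw [(MulEquiv.map_eq_one_iff (ψ e)).mp h, one_mul])⟩
      have hnotinj : ¬ Function.Injective f := by
        intro hf
        have h1 := Nat.card_le_card_of_injective f hf
        haveI := Fintype.ofFinite (pCore 2 Q)
        rw [hE, Nat.card_eq_fintype_card (α := {b : pCore 2 Q // b ≠ 1}), Fintype.card_subtype_compl,
          Fintype.card_subtype_eq, ← Nat.card_eq_fintype_card, h8] at h1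
        nlinarith
      obtain ⟨e₁, e₂, hfe, hne12⟩ : ∃ e₁ e₂, f e₁ = f e₂ ∧ e₁ ≠ e₂ := by
        simpa [Function.Injective] using hnotinj
      set e := e₂⁻¹ * e₁ with he
      have hea : ψ e a = a := by
        have h1 : ψ e₁ a = ψ e₂ a := congrArg Subtype.val hfe
        rw [he, map_mul, MulAut.mul_apply, h1, map_inv]
        exact (ψ e₂).symm_apply_apply a
      have he1 : e ≠ 1 := fun h => hne12 (by rwa [he, inv_mul_eq_one, eq_comm] at h)
      -- its fixed points
      let C : Subgroup (pCore 2 Q) :=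
        { carrier := {b | ψ e b = b}
          one_mem' := map_one _
          mul_mem' := fun {x y} hx hy => by
            simp only [Set.mem_setOf_eq] at hx hy ⊢
            rw [map_mul, hx, hy]
          inv_mem' := fun {x} hx => by
            simp only [Set.mem_setOf_eq] at hx ⊢
            rw [map_inv, hx] }
      have hCtop : C ≠ ⊤ := fun h => he1 (hinj (by
        rw [map_one]
        exact MulEquiv.ext fun b => (h ▸ Subgroup.mem_top b : b ∈ C)))
      have hCcard : Nat.card C = 4 := by
        have h1 : Nat.card C ∣ 8 := h8 ▸ C.card_subgroup_dvd_card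
        have h2 : orderOf a ∣ Nat.card C := by
          rw [← Nat.card_zpowers]
          exact Subgroup.card_dvd_of_le (Subgroup.zpowers_le.mpr hea)
        have h3 : Nat.card C ≠ 8 := fun h => hCtop (C.eq_top_of_card_eq (h.trans h8.symm))
        obtain ⟨j, hj⟩ := IsPGroup.iff_orderOf.mp (PSolvable.pCore_isPGroup (p := 2) (G := Q)) a
        have hj2 : 2 ≤ j := by
          by_contra hlt
          refine ha ?_
          rw [← pow_two]
          exact orderOf_dvd_iff_pow_eq_one.mp (hj ▸ (Nat.pow_dvd_pow 2 (show j ≤ 1 by omega)))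
        have h4 : 2 ^ 2 ∣ Nat.card C := (Nat.pow_dvd_pow 2 hj2).trans (hj ▸ h2)
        have h5 := Nat.le_of_dvd (by norm_num) h1
        obtain ⟨c, hc⟩ := h4
        have hc2 : c ≤ 2 := by omega
        have hC0 := Nat.card_pos (α := C)
        interval_cases c <;> omega
      -- the orbits outside have length `r`
      let σ : Equiv.Perm (pCore 2 Q) := MulEquiv.toEquiv (ψ e)
      have hσ : σ ^ r ^ 1 = 1 := by
        have h1 : ψ e ^ r = 1 := by rw [← map_pow, Subtype.ext (hEexp e e.2) (a1 := e ^ r) (a2 := 1), map_one]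
        have h2 := congrArg (MulAut.toPerm (pCore 2 Q)) h1
        rw [map_pow, map_one] at h2
        rw [pow_one]
        exact h2
      haveI := Fintype.ofFinite (pCore 2 Q)
      have hmod := Equiv.Perm.card_compl_support_modEq hσ
      have hset : σ.supportᶜ.card = Nat.card C := by
        rw [Nat.card_eq_fintype_card, Fintype.card_subtype]
        congr 1
        ext b
        simp [σ, C]
      rw [hset, hCcard, ← Nat.card_eq_fintype_card, h8] at hmod
      have hd : r ∣ 8 - 4 := (Nat.modEq_iff_dvd' (by norm_num)).mp hmod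
      have h6 := Nat.le_of_dvd (by norm_num) hd
      interval_cases r
      · norm_num at hd
      · exact absurd hr.out (by norm_num)
  haveI : Nontrivial E := Finite.one_lt_card_iff_nontrivial.mp (hE ▸ Nat.one_lt_pow two_ne_zero hr.out.one_lt)
  obtain ⟨x, hx⟩ := exists_ne (1 : E)
  have hxo : orderOf (x : Q) = r ^ 1 := by rw [pow_one]; exact hordE x x.2 fun h => hx (Subtype.ext h)
  have h1 := mem_pCore_of_mem_fitting (mem_fitting_of_centralizes fun s hsp o ho => hcent s hsp x x.2 o ho) hxo
  rw [hOr, Subgroup.mem_bot] at h1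
  exact hx (Subtype.ext h1)

theorem quaternion_normal (hB : AbConj Q) (hs : Group.IsSolvable Q)
    (hN : ∀ (N : Subgroup Q) (s : ℕ), N.Normal → s.Prime → IsMulCommutative N →
      (∀ a ∈ N, a ^ s = 1) → Nat.card N ∣ s)
    (R : Sylow 2 Q) (hu : ∀ u v : (R : Subgroup Q), orderOf u = 2 → orderOf v = 2 → u ∈ Subgroup.zpowers v)
    (hnc : ¬ IsCyclic (R : Subgroup Q)) : (R : Subgroup Q).Normal := by
  haveI := hs
  haveI : Fact (Nat.Prime 2) := ⟨Nat.prime_two⟩
  obtain ⟨h8, hgen⟩ := quaternion_facts hB hs R hu hnc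
  have hOle : pCore 2 Q ≤ (R : Subgroup Q) := PSolvable.pCore_le_sylow R
  by_cases hfull : Nat.card (pCore 2 Q) = 8
  · rw [← Subgroup.eq_of_le_of_card_ge hOle (by omega)]
    infer_instance
  exfalso
  have hcyc : IsCyclic (pCore 2 Q) := by
    by_cases hne : pCore 2 Q = ⊥
    · rw [hne]; infer_instance
    · exact (pCore_shape hB hs hN 2 hne).2.resolve_right fun h => hfull h.2
  -- no element of order four in the cyclic core
  have hno4 : ∀ x ∈ pCore 2 Q, orderOf x ≠ 4 := fun x hx h4 => hnc (by
    haveI := hcyc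
    have hle := hgen (pCore 2 Q) inferInstance ⟨x, hx, h4⟩
    exact isCyclic_of_injective (Subgroup.inclusion hle) (Subgroup.inclusion_injective hle))
  have hc2 : ∀ o ∈ pCore 2 Q, ∀ y : Q, o * y = y * o := by
    intro o ho y
    have hO2 : Nat.card (pCore 2 Q) ≤ 2 := by
      obtain ⟨k, hk⟩ := IsPGroup.iff_card.mp (PSolvable.pCore_isPGroup (p := 2) (G := Q))
      by_contra hlt
      rcases (show k ≤ 1 ∨ 2 ≤ k by omega) with h | h
      · rw [hk] at hlt; exact hlt ((Nat.pow_le_pow_right two_pos h).trans (by norm_num))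
      · obtain ⟨g, hg⟩ := IsCyclic.exists_generator (α := pCore 2 Q)
        have hgo : orderOf g = 2 ^ k := (orderOf_eq_card_of_forall_mem_zpowers hg).trans hk
        refine hno4 ((g ^ 2 ^ (k - 2) : pCore 2 Q) : Q) (SetLike.coe_mem _) ?_
        rw [Subgroup.orderOf_coe, orderOf_pow_of_dvd (pow_ne_zero _ two_ne_zero)
          (hgo ▸ Nat.pow_dvd_pow 2 (Nat.sub_le _ _)), hgo, Nat.pow_div (Nat.sub_le _ _) two_pos,
          Nat.sub_sub_self h]
        norm_num
    by_cases ho1 : o = 1
    · rw [ho1, one_mul, mul_one]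
    have h1 : y * o * y⁻¹ = o := by
      classical
      haveI := Fintype.ofFinite (pCore 2 Q)
      by_contra hne
      have h3 : ({1, ⟨o, ho⟩, ⟨y * o * y⁻¹, (inferInstance : (pCore 2 Q).Normal).conj_mem o ho y⟩} :
          Finset (pCore 2 Q)).card = 3 := Finset.card_eq_three.mpr ⟨_, _, _,
            fun h => ho1 (congrArg Subtype.val h).symm,
            fun h => ho1 (by
              have := congrArg Subtype.val h
              simpa [eq_comm, mul_inv_eq_one] using this),
            fun h => hne (congrArg Subtype.val h).symm, rfl⟩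
      have h4 := Finset.card_le_univ ({1, ⟨o, ho⟩, ⟨y * o * y⁻¹, (inferInstance : (pCore 2 Q).Normal).conj_mem o ho y⟩} :
          Finset (pCore 2 Q))
      rw [h3, ← Nat.card_eq_fintype_card] at h4
      omega
    exact (mul_inv_eq_iff_eq_mul.mp h1).symm
  -- an element of order four centralising every core
  obtain ⟨a, b, hab⟩ : ∃ a b : (R : Subgroup Q), a * b ≠ b * a := by
    by_contra hall
    push Not at hall
    exact hnc (isCyclic_of_unique R.2 hu (Or.inr ⟨⟨hall⟩⟩))
  have hord4 : ∀ c d : (R : Subgroup Q), c * d ≠ d * c → orderOf c = 4 := by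
    intro c d hcd
    have hd8 : orderOf c ∣ 2 ^ 3 := by
      rw [show (2 : ℕ) ^ 3 = Nat.card (R : Subgroup Q) by rw [h8]; norm_num]; exact orderOf_dvd_natCard c
    obtain ⟨i, hi, hio⟩ := (Nat.dvd_prime_pow Nat.prime_two).mp hd8
    rcases (show i = 0 ∨ i = 1 ∨ i = 2 ∨ i = 3 by omega) with rfl | rfl | rfl | rfl
    · exact absurd (by rw [orderOf_eq_one_iff.mp hio, one_mul, mul_one]) hcd
    · refine absurd ?_ hcd
      -- the only involution is central
      by_cases h1 : d * c * d⁻¹ = c
      · exact (mul_inv_eq_iff_eq_mul.mp h1).symm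
      exfalso
      obtain ⟨j, hj⟩ := hu (d * c * d⁻¹) c (by rw [← MulAut.conj_apply, MulEquiv.orderOf_eq, hio]; norm_num)
        (by rw [hio]; norm_num)
      change c ^ j = _ at hj
      have hc' : c ^ 2 = 1 := orderOf_dvd_iff_pow_eq_one.mp (by rw [hio, pow_one])
      rcases Int.even_or_odd j with ⟨l, rfl⟩ | ⟨l, rfl⟩
      · rw [← two_mul, zpow_mul, zpow_two, ← pow_two, hc', one_zpow] at hj
        have hc1 : c = 1 := by
          rw [eq_comm, mul_inv_eq_one, mul_eq_left] at hj
          exact hj
        rw [hc1, orderOf_one] at hio; norm_num at hio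
      · rw [zpow_add, zpow_mul, zpow_two, ← pow_two, hc', one_zpow, one_mul, zpow_one] at hj
        exact h1 hj.symm
    · rw [hio]; norm_num
    · exfalso
      exact hnc (isCyclic_of_orderOf_eq_card c (by rw [hio, h8]; norm_num))
  have ha4 := hord4 a b hab
  have key : ∀ s : ℕ, s.Prime → ∀ o ∈ pCore s Q, o * (a : Q) = a * o := by
    intro s hsp
    haveI := Fact.mk hsp
    by_cases hs2 : s = 2
    · subst hs2; exact fun o ho => hc2 o ho a
    by_cases hne : pCore s Q = ⊥
    · intro o ho
      rw [hne, Subgroup.mem_bot] at ho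
      rw [ho, one_mul, mul_one]
    obtain hc | ⟨h2, -⟩ := (pCore_shape hB hs hN s hne).2
    swap
    · exact absurd h2 hs2
    haveI := hc
    haveI := isCyclic_mulAut hs2 (PSolvable.pCore_isPGroup (p := s) (G := Q))
    set ψ := (MulAut.conjNormal (H := pCore s Q)).comp (R : Subgroup Q).subtype
    have hb4 := hord4 b a (fun h => hab h.symm)
    have hab4 : orderOf (a * b) = 4 := hord4 (a * b) b fun h => hab (mul_right_cancel (by
      rw [h, ← mul_assoc]))
    -- one of `a`, `b`, `a * b` acts trivially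
    obtain ⟨c, hc4, hcψ⟩ : ∃ c, orderOf c = 4 ∧ ψ c = 1 := by
      by_contra hno
      push Not at hno
      classical
      haveI := Fintype.ofFinite (MulAut (pCore s Q))
      have hsq : ∀ c : (R : Subgroup Q), orderOf c = 4 → ψ c ^ 2 = 1 := by
        intro c hc
        rw [← map_pow]
        have h2 : orderOf (c ^ 2) = 2 := by
          rw [orderOf_pow_of_dvd two_ne_zero (by rw [hc]; norm_num), hc]
        by_contra hne
        -- the involution acts; its image is a square in a cyclic group
        have hz : ∀ d : (R : Subgroup Q), orderOf d = 4 → d ^ 2 = c ^ 2 := by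
          intro d hd
          have hd2 : orderOf (d ^ 2) = 2 := by
            rw [orderOf_pow_of_dvd two_ne_zero (by rw [hd]; norm_num), hd]
          obtain ⟨j, hj⟩ := hu _ _ hd2 h2
          change (c ^ 2) ^ j = _ at hj
          have hcc : (c ^ 2) ^ 2 = 1 := orderOf_dvd_iff_pow_eq_one.mp h2.dvd
          rcases Int.even_or_odd j with ⟨l, rfl⟩ | ⟨l, rfl⟩
          · rw [← two_mul, zpow_mul, zpow_two, ← pow_two, hcc, one_zpow] at hj
            rw [← hj, orderOf_one] at hd2; norm_num at hd2
          · rw [zpow_add, zpow_mul, zpow_two, ← pow_two, hcc, one_zpow, one_mul, zpow_one] at hj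
            exact hj.symm
        apply hne
        have hA : IsMulCommutative (MulAut (pCore s Q)) := IsCyclic.isMulCommutative
        have e1 : ψ (a * b) ^ 2 = ψ a ^ 2 * ψ b ^ 2 := by
          rw [map_mul]
          exact (show Commute (ψ a) (ψ b) from hA.is_comm.comm _ _).mul_pow 2
        rw [← map_pow, ← map_pow, ← map_pow, hz _ hab4, hz _ ha4, hz _ hb4] at e1
        exact left_eq_mul.mp e1
      have h3 : ({1, ψ a, ψ b} : Finset _).card = 3 := Finset.card_eq_three.mpr
        ⟨1, ψ a, ψ b, (hno a ha4).symm, (hno b hb4).symm, fun h => hno (a * b) hab4 (by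
          rw [map_mul, h, ← pow_two, hsq b hb4]), rfl⟩
      have h5 : ({1, ψ a, ψ b} : Finset _) ⊆ Finset.univ.filter fun u : MulAut (pCore s Q) => u ^ 2 = 1 := by
        intro u hu'
        simp only [Finset.mem_insert, Finset.mem_singleton] at hu'
        simp only [Finset.mem_filter, Finset.mem_univ, true_and]
        rcases hu' with rfl | rfl | rfl
        · exact one_pow _
        · exact hsq a ha4
        · exact hsq b hb4
      have h6 := (Finset.card_le_card h5).trans (IsCyclic.card_pow_eq_one_le (α := MulAut (pCore s Q)) two_pos)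
      omega
    have hak : (a : Q) ∈ (MulAut.conjNormal (H := pCore s Q) : Q →* _).ker :=
      mem_of_orderOf_eq hB (m := (c : Q)) hcψ (by rw [Subgroup.orderOf_coe, Subgroup.orderOf_coe, ha4, hc4])
    exact fun o ho => conjNormal_eq_one_iff.mp hak o ho
  exact hno4 (a : Q) (mem_pCore_of_mem_fitting (mem_fitting_of_centralizes key) (i := 2)
    (by rw [Subgroup.orderOf_coe, ha4]; norm_num)) (by rw [Subgroup.orderOf_coe, ha4])

end Cfsg.Agent.Lib.AbelianConj
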